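import Cfsg.Agent.SelfCentThree.Arith
import Cfsg.Agent.S0252
import Cfsg.Agent.S3050
import Cfsg.Agent.S4006
import Cfsg.Agent.Char.Artin
import Mathlib.FieldTheory.Finite.GaloisField

/-!
# The reduction to the simple case
-/

set_option autoImplicit false

namespace Cfsg.Agent.SelfCentThree

open Subgroup

universe u v

variable {G : Type u} [Group G] [Finite G] {x : G}

theorem card_eq_three_of_comm (h : Sc x) (hc : IsMulCommutative G) : Nat.card G = 3 := by
  have htop : centralizer ({x} : Set G) = ⊤ :=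
    top_unique fun g _ => mem_centralizer_singleton_iff.2 (hc.is_comm.comm g x)
  rw [← card_top (G := G), ← htop, h.cent, h.card_zpowers]

theorem concl_of_card_three (h : Nat.card G = 3) : Concl G := by
  refine Or.inl ⟨⊥, inferInstance, inferInstance, ?_, Or.inl ?_⟩
  · rw [card_bot]; exact Nat.coprime_one_left 3
  · rw [Nat.card_congr (QuotientGroup.quotientBot (G := G)).toEquiv, h]

/-- Other primary parts of an invariant normal subgroup vanish. -/
theorem part_vanish (h : Sc x) {M W : Subgroup G} [M.Normal] (hM : Inv x M) (hW : Inv x W) (hMW : M ≤ W)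
    [IsSimpleGroup (G ⧸ M)] (r : ℕ) [Fact r.Prime]
    (hr : (Nat.card M).factorization r < (Nat.card W).factorization r) (q : ℕ) [Fact q.Prime]
    (hqr : q ≠ r) : ¬ q ∣ Nat.card M := by
  intro hq
  have hqp : q.Prime := Fact.out
  have hMn := hM.nilpotent h
  have hWn := hW.nilpotent h
  set P := part q M with hP
  have hPn : P.Normal := normalizer_eq_top_iff.1 <| top_unique <|
    (normalizer_eq_top (H := M)).ge.trans (normalizer_le_normalizer_part hMn)
  have hPW : P ≤ part q W := le_part hWn part_isPGroup ((part_le q M).trans hMW)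
  let φ : G →* MulAut P := MulAut.conjNormal
  have hker : ∀ c, c ∈ φ.ker ↔ ∀ b ∈ P, c * b = b * c := by
    intro c
    rw [MonoidHom.mem_ker]
    constructor
    · intro hc b hb
      have := congrArg (fun f : MulAut P => ((f ⟨b, hb⟩ : P) : G)) hc
      simp only [φ, MulAut.conjNormal_apply, MulAut.one_apply] at this
      exact mul_inv_eq_iff_eq_mul.1 this
    · intro hc
      ext ⟨b, hb⟩
      simp only [φ, MulAut.conjNormal_apply, MulAut.one_apply]
      rw [hc b hb, mul_inv_cancel_right]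
  have hRle : part r W ≤ φ.ker := fun a ha => (hker a).2 fun b hb => by
    obtain ⟨haW, i, hi⟩ := (mem_part hWn).1 ha
    obtain ⟨hbW, j, hj⟩ := (mem_part hWn).1 (hPW hb)
    have := hWn
    refine congrArg Subtype.val (Char.commute_of_nilpotent_coprime (a := (⟨a, haW⟩ : W)) (b := ⟨b, hbW⟩) ?_).eq
    rw [orderOf_mk, orderOf_mk]
    refine Nat.Coprime.coprime_dvd_left (orderOf_dvd_of_pow_eq_one hi)
      (Nat.Coprime.coprime_dvd_right (orderOf_dvd_of_pow_eq_one hj) ?_)
    exact Nat.Coprime.pow _ _ ((Nat.coprime_primes Fact.out hqp).2 (Ne.symm hqr))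
  have hx : x ∈ φ.ker ⊔ M := by
    rcases (φ.normal_ker.map _ (QuotientGroup.mk'_surjective M)).eq_bot_or_eq_top with e | e
    · rw [Subgroup.map_eq_bot_iff, QuotientGroup.ker_mk'] at e
      have hd := card_dvd_of_le (hRle.trans e)
      rw [card_part, (Fact.out : r.Prime).pow_dvd_iff_le_factorization Nat.card_pos.ne'] at hd
      omega
    · have hxm : QuotientGroup.mk' M x ∈ φ.ker.map (QuotientGroup.mk' M) := e ▸ mem_top _
      rw [← mem_comap, comap_map_eq, QuotientGroup.ker_mk'] at hxm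
      exact hxm
  obtain ⟨c, hc, m, hm, rfl⟩ := mem_sup_of_normal_right.1 hx
  have hφ : φ (c * m) = φ m := by rw [map_mul, MonoidHom.mem_ker.1 hc, one_mul]
  have h3 : φ m ^ 3 = 1 := by rw [← hφ, ← map_pow, h.cube, map_one]
  have h1 : φ m = 1 := by
    have ho : φ m ^ orderOf m = 1 := by rw [← map_pow, pow_orderOf_eq_one, map_one]
    have hcop : Nat.Coprime 3 (orderOf m) :=
      Nat.prime_three.coprime_iff_not_dvd.2 (hM.not_three_dvd_orderOf hm)
    have hg := pow_gcd_eq_one.2 ⟨h3, ho⟩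
    rw [hcop.gcd_eq_one, pow_one] at hg
    exact hg
  have hcomm := (hker (c * m)).1 (MonoidHom.mem_ker.2 (hφ.trans h1))
  have hPbot : P = ⊥ := eq_bot_iff.2 fun b hb => mem_bot.2
    (hM.fix h (part_le q M hb) (hcomm b hb).symm)
  have hcard := card_part q M
  rw [← hP, hPbot, card_bot] at hcard
  have := hqp.factorization_pos_of_dvd Nat.card_pos.ne' hq
  exact (Nat.one_lt_pow this.ne' hqp.one_lt).ne hcard

theorem factorization_lt_of_four {m w : ℕ} {r k : ℕ} (hr : r.Prime) (hm : m ≠ 0) (hw : w = r ^ (k + 1) * m) :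
    m.factorization r < w.factorization r := by
  rw [hw, Nat.factorization_mul (pow_ne_zero _ hr.ne_zero) hm, Finsupp.add_apply,
    hr.factorization_pow, Finsupp.single_eq_same]
  omega

theorem exists_preimage (h : Sc x) {M : Subgroup G} [M.Normal] (hM : Inv x M) {K : Subgroup (G ⧸ M)}
    (hK : QuotientGroup.mk' M x ∈ normalizer (K : Set (G ⧸ M))) {r k : ℕ} (hr : r.Prime) (hr3 : r ≠ 3)
    (hKc : Nat.card K = r ^ (k + 1)) :
    ∃ W : Subgroup G, Inv x W ∧ M ≤ W ∧ (Nat.card M).factorization r < (Nat.card W).factorization r := by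
  refine ⟨K.comap (QuotientGroup.mk' M), Inv.comap _ (QuotientGroup.mk'_surjective M)
    (by rw [QuotientGroup.ker_mk']; exact hM.cop) ⟨hK, fun hd => ?_⟩, fun a ha => ?_,
    factorization_lt_of_four hr Nat.card_pos.ne' (k := k) ?_⟩
  · rw [hKc] at hd
    exact hr3 ((Nat.prime_dvd_prime_iff_eq Nat.prime_three hr).1 (Nat.prime_three.dvd_of_dvd_pow hd)).symm
  · rw [mem_comap, QuotientGroup.mk'_apply, (QuotientGroup.eq_one_iff a).2 ha]
    exact one_mem _
  · have h1 := card_eq_card_quotient_mul_card_subgroup (K.comap (QuotientGroup.mk' M))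
    have h2 : (K.comap (QuotientGroup.mk' M)).index = K.index :=
      index_comap_of_surjective _ (QuotientGroup.mk'_surjective M)
    rw [show Nat.card (G ⧸ K.comap (QuotientGroup.mk' M)) = K.index from h2] at h1
    have h3 := card_eq_card_quotient_mul_card_subgroup M
    have h4 := K.card_mul_index
    rw [hKc] at h4
    rw [h3, ← h4] at h1
    have h5 : K.index * (r ^ (k + 1) * Nat.card M) = K.index * Nat.card (K.comap (QuotientGroup.mk' M)) := by
      rw [← h1]; ring
    exact (Nat.eq_of_mul_eq_mul_left (Nat.pos_of_ne_zero K.index_ne_zero_of_finite) h5).symm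

/-- Extensions of the alternating group. -/
theorem elementary_of_alt (h : Sc x) {M : Subgroup G} [M.Normal] (hM : Inv x M)
    (e : G ⧸ M ≃* alternatingGroup (Fin 5)) : IsMulCommutative M ∧ ∀ n ∈ M, n ^ 2 = 1 := by
  have : Nontrivial (G ⧸ M) := e.toEquiv.nontrivial
  have hs : IsSimpleGroup (G ⧸ M) := e.isSimpleGroup
  have hcQ : Nat.card (G ⧸ M) = 60 := (Nat.card_congr e.toEquiv).trans card_alt_five
  obtain ⟨K, hK1, hK2⟩ := exists_klein_sixty hcQ (h.quotient M hM.cop)
  obtain ⟨W, hW, hMW, hlt⟩ := exists_preimage h hM hK1 Nat.prime_two (by norm_num) (k := 1) hK2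
  have : Fact (Nat.Prime 2) := ⟨Nat.prime_two⟩
  have h2 : IsPGroup 2 M := by
    refine IsPGroup.iff_card.2 ⟨(Nat.card M).primeFactorsList.length,
      Nat.eq_prime_pow_of_unique_prime_dvd Nat.card_pos.ne' fun {q} hq hqd => ?_⟩
    by_contra hne
    have : Fact q.Prime := ⟨hq⟩
    exact part_vanish h hM hW hMW 2 hlt q hne hqd
  let K4 := GaloisField 2 2
  have : Fintype K4 := Fintype.ofFinite K4
  have hK4 : Fintype.card K4 = 4 := by
    rw [Fintype.card_eq_nat_card, GaloisField.card 2 2 two_ne_zero]; norm_num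
  obtain ⟨e'⟩ := S0252.result (F := K4) hK4
  have hbij : Function.Bijective (QuotientGroup.mk' (center (Matrix.SpecialLinearGroup (Fin 2) K4))) := by
    rw [Nat.bijective_iff_surjective_and_card]
    refine ⟨QuotientGroup.mk'_surjective _, ?_⟩
    rw [Classical.card_sl2, hK4]
    exact ((Nat.card_congr e'.toEquiv).trans card_alt_five).symm
  let e2 : G ⧸ M ≃* Matrix.SpecialLinearGroup (Fin 2) K4 :=
    (e.trans e'.symm).trans (MulEquiv.ofBijective _ hbij).symm
  obtain ⟨⟨hc, hsq⟩, -⟩ := S3050.result M h2 2 le_rfl K4 (by rw [hK4]; norm_num) e2 x h.orderOf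
    (fun q hq hc => hM.fix h hq (mul_inv_eq_iff_eq_mul.1 hc).symm)
  exact ⟨hc, hsq⟩

/-- The smaller groups. -/
def IH (G : Type u) [Group G] : Prop :=
  ∀ (H : Type u) [Group H] [Finite H], Nat.card H < Nat.card G → ∀ y : H, Sc y → Concl H

theorem concl_quotient (ih : IH G) (h : Sc x) (N : Subgroup G) [N.Normal] (hN : N ≠ ⊥)
    (hN3 : ¬ 3 ∣ Nat.card N) : Concl G := by
  have hNI : Inv x N := ⟨by rw [normalizer_eq_top]; trivial, hN3⟩
  have hlt : Nat.card (G ⧸ N) < Nat.card G := by
    rw [card_eq_card_quotient_mul_card_subgroup N]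
    exact Nat.lt_mul_iff_one_lt_right Nat.card_pos |>.2 (N.one_lt_card_iff_ne_bot.2 hN)
  have hQ := ih (G ⧸ N) hlt _ (h.quotient N hN3)
  set f := QuotientGroup.mk' N
  have hker : ¬ 3 ∣ Nat.card f.ker := by rw [QuotientGroup.ker_mk']; exact hN3
  have hequiv : ∀ (A : Subgroup (G ⧸ N)) [A.Normal],
      Nonempty (G ⧸ A.comap f ≃* (G ⧸ N) ⧸ A) := fun A _ => by
    let F : G →* (G ⧸ N) ⧸ A := (QuotientGroup.mk' A).comp f
    have hF : F.ker = A.comap f := by
      rw [← MonoidHom.comap_ker, QuotientGroup.ker_mk']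
    have hFs : Function.Surjective F :=
      (QuotientGroup.mk'_surjective A).comp (QuotientGroup.mk'_surjective N)
    exact ⟨(QuotientGroup.quotientMulEquivOfEq hF.symm).trans (QuotientGroup.quotientKerEquivOfSurjective F hFs)⟩
  have hinv : ∀ (A : Subgroup (G ⧸ N)), A.Normal → ¬ 3 ∣ Nat.card A → Inv x (A.comap f) := fun A hA hA3 =>
    Inv.comap f (QuotientGroup.mk'_surjective N) hker ⟨by rw [normalizer_eq_top]; trivial, hA3⟩
  rcases hQ with ⟨A, hA, -, hA3, hq⟩ | ⟨V, hV, -, hV2, ⟨e⟩⟩ | ⟨⟨e⟩⟩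
  · have hA3' : ¬ 3 ∣ Nat.card A := fun hd =>
      Nat.prime_three.one_lt.ne' (Nat.Coprime.eq_one_of_dvd hA3.symm hd)
    have hI := hinv A hA hA3'
    obtain ⟨e⟩ := hequiv A
    refine Or.inl ⟨A.comap f, inferInstance, hI.nilpotent h,
      (Nat.prime_three.coprime_iff_not_dvd.2 hI.cop).symm, ?_⟩
    rcases hq with hq | ⟨⟨e3⟩⟩
    · exact Or.inl (by rw [Nat.card_congr e.toEquiv, hq])
    · exact Or.inr ⟨e.trans e3⟩
  · have hV3 : ¬ 3 ∣ Nat.card V := fun hd => by
      have : Fact (Nat.Prime 3) := ⟨Nat.prime_three⟩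
      obtain ⟨⟨v, hv⟩, hvo⟩ := exists_prime_orderOf_dvd_card' 3 hd
      rw [orderOf_mk] at hvo
      have := orderOf_dvd_of_pow_eq_one (hV2 v hv)
      rw [hvo] at this
      norm_num at this
    have hI := hinv V hV hV3
    obtain ⟨e'⟩ := hequiv V
    obtain ⟨h1, h2⟩ := elementary_of_alt h hI (e'.trans e)
    exact Or.inr (Or.inl ⟨V.comap f, inferInstance, h1, h2, ⟨e'.trans e⟩⟩)
  · exfalso
    obtain ⟨hs7, hc7⟩ := psl_seven
    have : Nontrivial (G ⧸ N) := e.toEquiv.nontrivial
    have : IsSimpleGroup (G ⧸ N) := e.isSimpleGroup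
    have hcQ : Nat.card (G ⧸ N) = 168 := (Nat.card_congr e.toEquiv).trans hc7
    obtain ⟨q, hq, hqd⟩ := Nat.exists_prime_and_dvd (n := Nat.card N)
      (fun e1 => hN (card_eq_one.1 e1))
    have : Fact q.Prime := ⟨hq⟩
    by_cases hq2 : q = 2
    · obtain ⟨K, hK1, hK2⟩ := exists_seven_168 hcQ (h.quotient N hN3)
      have h7 : Nat.Prime 7 := by norm_num
      have : Fact (Nat.Prime 7) := ⟨h7⟩
      obtain ⟨W, hW, hNW, hlt⟩ := exists_preimage h hNI hK1 h7 (by norm_num) (k := 0)
        (by rw [hK2]; norm_num)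
      exact part_vanish h hNI hW hNW 7 hlt q (by omega) hqd
    · obtain ⟨K, hK1, hK2⟩ := exists_klein_168 hcQ (h.quotient N hN3)
      have : Fact (Nat.Prime 2) := ⟨Nat.prime_two⟩
      obtain ⟨W, hW, hNW, hlt⟩ := exists_preimage h hNI hK1 Nat.prime_two (by norm_num) (k := 1)
        (by rw [hK2]; norm_num)
      exact part_vanish h hNI hW hNW 2 hlt q hq2 hqd

theorem normalizer_le_of_simple (h : Sc x) {N : Subgroup G} (hxN : x ∈ N) [IsSimpleGroup N]
    (hc : Nat.card N ≠ 3) : ∀ g : G, g ∈ normalizer (zpowers x : Set G) → g ∈ N := by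
  intro g hg
  have hy : Sc (⟨x, hxN⟩ : N) := h.subgroup hxN
  obtain ⟨⟨s, hs⟩, -, -, hsx⟩ := hy.exists_inverter fun hcomm => hc (card_eq_three_of_comm hy hcomm)
  have hsx' : s * x * s⁻¹ = x⁻¹ := congrArg Subtype.val hsx
  rcases h.mem_normalizer_cases hg with e | e
  · exact zpowers_le.2 hxN e
  · have hgs : (g * s) * x = x * (g * s) := by
      calc (g * s) * x = g * (s * x * s⁻¹) * g⁻¹ * (g * s) := by group
        _ = (g * x * g⁻¹)⁻¹ * (g * s) := by rw [hsx']; group
        _ = x * (g * s) := by rw [e, inv_inv]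
    have := mul_mem (zpowers_le.2 hxN (h.mem_zpowers_of_commute hgs)) (inv_mem hs)
    rwa [mul_inv_cancel_right] at this

theorem eq_top_of_normal_simple (h : Sc x) {N : Subgroup G} [N.Normal] (hxN : x ∈ N) [IsSimpleGroup N]
    (hc : Nat.card N ≠ 3) : N = ⊤ := by
  refine top_unique fun g _ => ?_
  have hy : Sc (⟨x, hxN⟩ : N) := h.subgroup hxN
  have hgN : g * x * g⁻¹ ∈ N := Subgroup.Normal.conj_mem inferInstance x hxN g
  obtain ⟨⟨k, hk⟩, hkx⟩ := hy.cover (g := (⟨g * x * g⁻¹, hgN⟩ : N)) (Subtype.ext (h.conj g).cube)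
    (fun e => (h.conj g).ne (congrArg Subtype.val e))
  have hcj : cj (k * g) (zpowers x) = zpowers x := by
    rw [cj, MonoidHom.map_zpowers]
    show zpowers (k * g * x * (k * g)⁻¹) = zpowers x
    rcases hkx with e | e <;>
      rw [show k * g * x * (k * g)⁻¹ = k * (g * x * g⁻¹) * k⁻¹ by group,
        show k * (g * x * g⁻¹) * k⁻¹ = _ from congrArg Subtype.val e]
    exact zpowers_inv
  have := normalizer_le_of_simple h hxN hc (k * g) (cj_eq_iff.1 hcj)
  rwa [N.mul_mem_cancel_left hk] at this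

theorem concl_of_normal_zpowers (h : Sc x) (hX : (zpowers x).Normal) : Concl G := by
  have hnorm : ∀ g : G, g ∈ zpowers x ∨ g * x * g⁻¹ = x⁻¹ := fun g =>
    h.mem_normalizer_cases (by rw [normalizer_eq_top]; trivial)
  by_cases hall : ∀ g : G, g ∈ zpowers x
  · exact concl_of_card_three (by rw [← card_top (G := G), ← (eq_top_iff' _).2 hall, h.card_zpowers])
  push Not at hall
  obtain ⟨t, ht⟩ := hall
  have htx := (hnorm t).resolve_left ht
  have htC : ∀ g, g ∉ zpowers x → g * t ∈ zpowers x := fun g hg => by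
    refine h.mem_zpowers_of_commute ?_
    calc (g * t) * x = g * (t * x * t⁻¹) * g⁻¹ * (g * t) := by group
      _ = (g * x * g⁻¹)⁻¹ * (g * t) := by rw [htx]; group
      _ = x * (g * t) := by rw [(hnorm g).resolve_left hg, inv_inv]
  have hidx : (zpowers x).index = 2 := by
    rw [index_eq_two_iff]
    refine ⟨t, fun b => ?_⟩
    by_cases hb : b ∈ zpowers x
    · exact Or.inr ⟨hb, fun hbt => ht ((mul_mem_cancel_left hb).1 hbt)⟩
    · exact Or.inl ⟨htC b hb, hb⟩
  have h6 : Nat.card G = 6 := by rw [← (zpowers x).card_mul_index, hidx, h.card_zpowers]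
  have ht2 : t * t = 1 := by
    have hm := htC t ht
    have ht1 : t * (t * t) * t⁻¹ = t * t := by group
    rcases h.eq_cases hm with e | e | e
    · exact e
    · rw [e, htx] at ht1; exact absurd ht1 h.inv_ne
    · have : t * (x * x) * t⁻¹ = x⁻¹ * x⁻¹ := by
        rw [← htx]; group
      rw [e, this, ← mul_inv_rev, ← h.inv_eq, inv_inv] at ht1
      exact absurd ht1.symm h.inv_ne
  have hto : orderOf t = 2 := orderOf_eq_prime (by rw [sq, ht2]) (fun e => ht (e ▸ one_mem _))
  have hnc : ¬ Commute t x := fun hc => h.inv_ne (by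
    rw [← htx, hc.eq, mul_inv_cancel_right])
  obtain ⟨e⟩ := S4006.equiv_perm_three h6 hto hnc
  refine Or.inl ⟨⊥, inferInstance, inferInstance, ?_, Or.inr ⟨QuotientGroup.quotientBot.trans e⟩⟩
  rw [card_bot]; exact Nat.coprime_one_left 3

theorem concl_of_all_three (ih : IH G) (h : Sc x)
    (hall : ∀ N : Subgroup G, N.Normal → N ≠ ⊥ → 3 ∣ Nat.card N) (N : Subgroup G) [N.Normal]
    (hN : N ≠ ⊥) (hNt : N ≠ ⊤) : Concl G := by
  have : Fact (Nat.Prime 3) := ⟨Nat.prime_three⟩
  have hxN : x ∈ N := by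
    obtain ⟨⟨g, hg⟩, hgo⟩ := exists_prime_orderOf_dvd_card' 3 (hall N inferInstance hN)
    rw [orderOf_mk] at hgo
    obtain ⟨k, hk⟩ := h.cover (g := g) (by rw [← hgo, pow_orderOf_eq_one])
      (fun e => by rw [e, orderOf_one] at hgo; omega)
    have hm : k * g * k⁻¹ ∈ N := Subgroup.Normal.conj_mem inferInstance g hg k
    rcases hk with e | e <;> rw [e] at hm
    · exact hm
    · exact inv_inv x ▸ inv_mem hm
  have hlt : Nat.card N < Nat.card G :=
    lt_of_le_of_ne (card_le_card_group N) fun e => hNt ((card_eq_iff_eq_top _).1 e)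
  have hy : Sc (⟨x, hxN⟩ : N) := h.subgroup hxN
  -- the largest normal subgroup of order prime to three is trivial
  have hbot : ∀ A : Subgroup N, A.Normal → ¬ 3 ∣ Nat.card A →
      (∀ B : Subgroup N, B.Normal → ¬ 3 ∣ Nat.card B → B ≤ A) → A = ⊥ := by
    intro A hA hA3 hmax
    have hsub : ∀ g : G, ∀ a ∈ A, g * (a : G) * g⁻¹ ∈ A.map N.subtype := by
      intro g a ha
      let c : N ≃* N := MulAut.conjNormal g
      have hB : A.map c.toMonoidHom ≤ A := hmax _ (hA.map _ c.surjective)
        (by rwa [show Nat.card (A.map c.toMonoidHom) = Nat.card A from card_map_of_injective c.injective])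
      exact ⟨c a, hB (mem_map_of_mem _ ha), MulAut.conjNormal_apply ..⟩
    have hn : (A.map N.subtype).Normal := ⟨by
      rintro _ ⟨a, ha, rfl⟩ g
      exact hsub g a ha⟩
    by_contra hne
    refine hA3 ?_
    rw [← card_map_of_injective N.subtype_injective]
    exact hall _ hn fun e => hne ((map_eq_bot_iff_of_injective A N.subtype_injective).1 e)
  rcases ih N hlt _ hy with ⟨A, hA, -, hA3, hq⟩ | ⟨V, hV, -, hV2, ⟨e⟩⟩ | ⟨⟨e⟩⟩
  · have hq' : Nat.card (N ⧸ A) = 3 ∨ Nat.card (N ⧸ A) = 6 := by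
      rcases hq with hq | ⟨⟨e⟩⟩
      · exact Or.inl hq
      · exact Or.inr (by rw [Nat.card_congr e.toEquiv, Nat.card_perm, Nat.card_fin]; rfl)
    have hA3' : ¬ 3 ∣ Nat.card A := fun hd =>
      Nat.prime_three.one_lt.ne' (Nat.Coprime.eq_one_of_dvd hA3.symm hd)
    have hAb : A = ⊥ := hbot A hA hA3' fun B hB hB3 => by
      have h1 := Inv.map_card_mod hy (⟨by rw [normalizer_eq_top]; trivial, hB3⟩ : Inv _ B) (QuotientGroup.mk' A)
      have h2 := card_subgroup_dvd_card (B.map (QuotientGroup.mk' A))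
      have h3 : ¬ 3 ∣ Nat.card (B.map (QuotientGroup.mk' A)) := fun hd => hB3 (hd.trans (card_map_dvd ..))
      have h4 : Nat.card (B.map (QuotientGroup.mk' A)) = 1 := by
        generalize Nat.card (B.map (QuotientGroup.mk' A)) = d at h1 h2 h3
        rcases hq' with e | e <;> rw [e] at h2 <;>
          have := Nat.le_of_dvd (by norm_num) h2 <;> interval_cases d <;> omega
      have h5 := card_eq_one.1 h4
      rwa [Subgroup.map_eq_bot_iff, QuotientGroup.ker_mk'] at h5
    have hcN : Nat.card N = 3 ∨ Nat.card N = 6 := by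
      rwa [hAb, Nat.card_congr (QuotientGroup.quotientBot (G := N)).toEquiv] at hq'
    refine concl_of_normal_zpowers h ⟨fun a ha g => ?_⟩
    have hgN : g * x * g⁻¹ ∈ N := Subgroup.Normal.conj_mem inferInstance x hxN g
    have hgX : g * x * g⁻¹ ∈ zpowers x := by
      have hle : zpowers x ≤ N := zpowers_le.2 hxN
      rcases hcN with e | e
      · rw [eq_of_le_of_card_ge hle (by rw [e, h.card_zpowers])]
        exact hgN
      · have hidx : ((zpowers x).subgroupOf N).index = 2 := by
          have := ((zpowers x).subgroupOf N).card_mul_index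
          rw [Nat.card_congr (subgroupOfEquivOfLe hle).toEquiv, h.card_zpowers, e] at this
          omega
        have hsq := sq_mem_of_index_two hidx (⟨g * x * g⁻¹, hgN⟩ : N)
        rw [mem_subgroupOf, Subgroup.coe_pow] at hsq
        have := pow_mem hsq 2
        rwa [← pow_mul, show 2 * 2 = 3 + 1 from rfl, pow_succ, (h.conj g).cube, one_mul] at this
    obtain ⟨i, rfl⟩ := mem_zpowers_iff.1 ha
    rw [← conj_zpow]
    exact zpow_mem hgX i
  · exfalso
    have : Nontrivial (N ⧸ V) := e.toEquiv.nontrivial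
    have : IsSimpleGroup (N ⧸ V) := e.isSimpleGroup
    have hV3 : ¬ 3 ∣ Nat.card V := fun hd => by
      obtain ⟨⟨v, hv⟩, hvo⟩ := exists_prime_orderOf_dvd_card' 3 hd
      rw [orderOf_mk] at hvo
      have := orderOf_dvd_of_pow_eq_one (hV2 v hv)
      rw [hvo] at this
      norm_num at this
    have hcQ : Nat.card (N ⧸ V) = 60 := (Nat.card_congr e.toEquiv).trans card_alt_five
    have hVb : V = ⊥ := hbot V hV hV3 fun B hB hB3 => by
      rcases (hB.map _ (QuotientGroup.mk'_surjective V)).eq_bot_or_eq_top with e1 | e1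
      · rwa [Subgroup.map_eq_bot_iff, QuotientGroup.ker_mk'] at e1
      · refine absurd ((show 3 ∣ Nat.card (B.map (QuotientGroup.mk' V)) by
          rw [e1, card_top, hcQ]; norm_num).trans (card_map_dvd ..)) hB3
    have hcN : Nat.card N = 60 := by
      rwa [hVb, Nat.card_congr (QuotientGroup.quotientBot (G := N)).toEquiv] at hcQ
    have e' : N ≃* alternatingGroup (Fin 5) :=
      ((QuotientGroup.quotientMulEquivOfEq hVb).trans QuotientGroup.quotientBot).symm.trans e
    have : Nontrivial N := e'.toEquiv.nontrivial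
    have : IsSimpleGroup N := e'.isSimpleGroup
    exact hNt (eq_top_of_normal_simple h hxN (by omega))
  · exfalso
    obtain ⟨hs, hc⟩ := psl_seven
    have : Nontrivial N := e.toEquiv.nontrivial
    have : IsSimpleGroup N := e.isSimpleGroup
    have hcN : Nat.card N = 168 := (Nat.card_congr e.toEquiv).trans hc
    exact hNt (eq_top_of_normal_simple h hxN (by omega))

theorem concl : ∀ (n : ℕ) (G : Type u) [Group G] [Finite G], Nat.card G = n → ∀ x : G, Sc x → Concl G := by
  intro n
  induction n using Nat.strong_induction_on with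
  | _ n ihn =>
    intro G _ _ hn x h
    have ih : IH G := fun H _ _ hlt y hy => ihn _ (hn ▸ hlt) H rfl y hy
    have : Nontrivial G := ⟨⟨x, 1, h.ne⟩⟩
    by_cases hs : IsSimpleGroup G
    · by_cases hc : IsMulCommutative G
      · exact concl_of_card_three (card_eq_three_of_comm h hc)
      · refine concl_of_ctx ⟨hs, hc, fun H hH y hy hyH => ih H ?_ _ (hy.subgroup hyH)⟩ h
        exact lt_of_le_of_ne (card_le_card_group H) fun e => hH ((card_eq_iff_eq_top _).1 e)
    by_cases hex : ∃ N : Subgroup G, N.Normal ∧ N ≠ ⊥ ∧ ¬ 3 ∣ Nat.card N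
    · obtain ⟨N, hNn, hN, hN3⟩ := hex
      exact concl_quotient ih h N hN hN3
    push Not at hex
    obtain ⟨N, hNn, hN, hNt⟩ : ∃ N : Subgroup G, N.Normal ∧ N ≠ ⊥ ∧ N ≠ ⊤ := by
      by_contra hcon
      push Not at hcon
      exact hs ⟨fun N hN => or_iff_not_imp_left.2 (hcon N hN)⟩
    exact concl_of_all_three ih h hex N hN hNt

end Cfsg.Agent.SelfCentThree
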