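import Cfsg.Agent.SelfCentThree.Basics
import Cfsg.Agent.S0992
import Cfsg.Agent.S1007
import Cfsg.Agent.Classical.LinearBasic
import Cfsg.Agent.Classical.Linear2

/-!
# Invariant subgroups in the two small simple groups
-/

set_option autoImplicit false

namespace Cfsg.Agent.SelfCentThree

open Subgroup

universe u v

/-- The target of the classification. -/
def Concl (G : Type u) [Group G] : Prop :=
  (∃ (N : Subgroup G) (hN : N.Normal), Group.IsNilpotent N ∧ (Nat.card N).Coprime 3 ∧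
      (Nat.card (G ⧸ N) = 3 ∨ Nonempty (G ⧸ N ≃* Equiv.Perm (Fin 3)))) ∨
    (∃ (N : Subgroup G) (hN : N.Normal), IsMulCommutative N ∧ (∀ n ∈ N, n ^ 2 = 1) ∧
      Nonempty (G ⧸ N ≃* alternatingGroup (Fin 5))) ∨
    Nonempty (G ≃* Matrix.ProjectiveSpecialLinearGroup (Fin 2) (ZMod 7))

variable {G : Type u} [Group G] {x : G}

theorem Sc.map_equiv {H : Type v} [Group H] (h : Sc x) (e : G ≃* H) : Sc (e x) := by
  refine ⟨by rw [← map_pow, h.cube, map_one], fun e1 => h.ne (e.injective (e1.trans (map_one e).symm)), ?_⟩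
  refine le_antisymm (fun g hg => ?_) (zpowers_le.2 (mem_centralizer_singleton_iff.2 rfl))
  rw [mem_centralizer_singleton_iff] at hg
  obtain ⟨i, hi⟩ := mem_zpowers_iff.1 (h.mem_zpowers_of_commute (g := e.symm g) (e.injective (by
    rw [map_mul, map_mul, e.apply_symm_apply]; exact hg)))
  exact mem_zpowers_iff.2 ⟨i, by rw [← map_zpow, hi, e.apply_symm_apply]⟩

theorem Sc.subgroup (h : Sc x) {H : Subgroup G} (hx : x ∈ H) : Sc (⟨x, hx⟩ : H) := by
  refine ⟨Subtype.ext (by simpa using h.cube), fun e => h.ne (congrArg Subtype.val e), ?_⟩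
  refine le_antisymm (fun g hg => ?_) (zpowers_le.2 (mem_centralizer_singleton_iff.2 rfl))
  rw [mem_centralizer_singleton_iff] at hg
  obtain ⟨i, hi⟩ := mem_zpowers_iff.1 (h.mem_zpowers_of_commute (g := (g : G)) (congrArg Subtype.val hg))
  exact mem_zpowers_iff.2 ⟨i, Subtype.ext (by simpa using hi)⟩

theorem Sc.quotient [Finite G] (h : Sc x) (N : Subgroup G) [N.Normal] (hN : ¬ 3 ∣ Nat.card N) :
    Sc (QuotientGroup.mk' N x) := by
  have hK : Inv x N := ⟨by rw [normalizer_eq_top]; trivial, hN⟩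
  refine ⟨by rw [← map_pow, h.cube, map_one], fun e => ?_, ?_⟩
  · have hx : x ∈ N := by rwa [QuotientGroup.mk'_apply, QuotientGroup.eq_one_iff] at e
    exact h.ne (hK.fix h hx rfl)
  · refine le_antisymm (fun q hq => ?_) (zpowers_le.2 (mem_centralizer_singleton_iff.2 rfl))
    obtain ⟨g, rfl⟩ := QuotientGroup.mk'_surjective N q
    rw [mem_centralizer_singleton_iff, ← map_mul, ← map_mul] at hq
    have hn : g * x * g⁻¹ * x⁻¹ ∈ N := by
      rw [show g * x * g⁻¹ * x⁻¹ = (g * x) * (x * g)⁻¹ by group, ← QuotientGroup.eq_one_iff,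
        ← QuotientGroup.mk'_apply, map_mul, map_inv, hq, mul_inv_cancel]
    obtain ⟨a, ha, e⟩ := hK.exists_conj h hn
    have : a⁻¹ * g ∈ zpowers x := h.mem_zpowers_of_commute (by
      calc a⁻¹ * g * x = a⁻¹ * (g * x * g⁻¹ * x⁻¹ * x) * g := by group
        _ = a⁻¹ * (a * x * a⁻¹) * g := by rw [e]
        _ = x * (a⁻¹ * g) := by group)
    obtain ⟨i, hi⟩ := mem_zpowers_iff.1 this
    refine mem_zpowers_iff.2 ⟨i, ?_⟩
    rw [← map_zpow, hi, map_mul, map_inv, QuotientGroup.mk'_apply, (QuotientGroup.eq_one_iff a).2 ha]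
    simp

/-- A subgroup normalised by some element of order three is conjugate to one normalised by `x`. -/
theorem Sc.exists_conj_norm [Finite G] (h : Sc x) (T : Subgroup G)
    (h3 : 3 ∣ Nat.card (normalizer (T : Set G))) :
    ∃ K : Subgroup G, x ∈ normalizer (K : Set G) ∧ Nat.card K = Nat.card T := by
  have : Fact (Nat.Prime 3) := ⟨Nat.prime_three⟩
  obtain ⟨⟨z, hz⟩, hzo⟩ := exists_prime_orderOf_dvd_card' 3 h3
  rw [orderOf_mk] at hzo
  obtain ⟨k, hk⟩ := h.cover (g := z) (by rw [← hzo]; exact pow_orderOf_eq_one z)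
    (fun e => by rw [e, orderOf_one] at hzo; omega)
  refine ⟨T.map (MulAut.conj k).toMonoidHom, ?_,
    (Nat.card_congr (T.equivMapOfInjective _ (MulAut.conj k).injective).toEquiv).symm⟩
  have : k * z * k⁻¹ ∈ normalizer ((T.map (MulAut.conj k).toMonoidHom : Subgroup G) : Set G) :=
    T.le_normalizer_map (MulAut.conj k).toMonoidHom ⟨z, hz, rfl⟩
  rcases hk with e | e <;> rw [e] at this
  · exact this
  · exact inv_mem_iff.1 this

theorem exists_klein_sixty [Finite G] [IsSimpleGroup G] (hG : Nat.card G = 60) (h : Sc x) :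
    ∃ K : Subgroup G, x ∈ normalizer (K : Set G) ∧ Nat.card K = 4 := by
  have : Fact (Nat.Prime 2) := ⟨Nat.prime_two⟩
  obtain ⟨T⟩ := (inferInstance : Nonempty (Sylow 2 G))
  have hna : ¬ IsMulCommutative G := fun hc => by
    letI : CommGroup G := { ‹Group G› with mul_comm := hc.is_comm.comm }
    have := IsSimpleGroup.prime_card (α := G)
    rw [hG] at this
    norm_num at this
  obtain ⟨hK, hrel⟩ := S0992.result hna (by rw [hG]; decide) (by rw [hG]; norm_num) T
  obtain ⟨K, hK1, hK2⟩ := h.exists_conj_norm (T : Subgroup G)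
    (dvd_trans (dvd_of_eq hrel.symm) (relIndex_dvd_card ..))
  exact ⟨K, hK1, hK2.trans hK.card_four⟩

theorem exists_klein_168 [Finite G] [IsSimpleGroup G] (hG : Nat.card G = 168) (h : Sc x) :
    ∃ K : Subgroup G, x ∈ normalizer (K : Set G) ∧ Nat.card K = 4 := by
  obtain ⟨T⟩ := (inferInstance : Nonempty (Sylow 2 G))
  obtain ⟨hcard, -, hn⟩ := S1007.result hG T
  obtain ⟨⟨U, -, hU⟩⟩ := (Nat.card_pos_iff.1 (show 0 < Nat.card {U : Subgroup G // U ≤ (T : Subgroup G) ∧ IsKleinFour ↥U} by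
    rw [hcard]; norm_num)).1
  obtain ⟨e⟩ := hn U hU
  obtain ⟨K, hK1, hK2⟩ := h.exists_conj_norm U (by
    rw [Nat.card_congr e.toEquiv, Nat.card_perm, Nat.card_fin]; decide)
  exact ⟨K, hK1, hK2.trans hU.card_four⟩

theorem exists_seven_168 [Finite G] [IsSimpleGroup G] (hG : Nat.card G = 168) (h : Sc x) :
    ∃ K : Subgroup G, x ∈ normalizer (K : Set G) ∧ Nat.card K = 7 := by
  have : Fact (Nat.Prime 7) := ⟨by norm_num⟩
  obtain ⟨P⟩ := (inferInstance : Nonempty (Sylow 7 G))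
  obtain ⟨h7, hn, -⟩ := (SmallOrder.Order168.sylow_seven hG).2 P
  obtain ⟨K, hK1, hK2⟩ := h.exists_conj_norm (P : Subgroup G) (by rw [hn]; norm_num)
  exact ⟨K, hK1, hK2.trans h7⟩

theorem psl_seven : IsSimpleGroup (Matrix.ProjectiveSpecialLinearGroup (Fin 2) (ZMod 7)) ∧
    Nat.card (Matrix.ProjectiveSpecialLinearGroup (Fin 2) (ZMod 7)) = 168 := by
  have e2 : (2 : ZMod 7) ≠ 0 ∧ (2 : ZMod 7) ^ 2 ≠ 1 := by decide
  have : Fact (Nat.Prime 7) := ⟨by norm_num⟩
  refine ⟨Classical.isSimpleGroup_psl (Or.inr ⟨by simp, (2 : ZMod 7), e2⟩), ?_⟩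
  have h1 := Classical.card_psl_mul (ι := Fin 2) (F := ZMod 7)
  rw [Classical.card_sl2, ZMod.card, Fintype.card_fin] at h1
  rw [show Nat.gcd 2 (7 - 1) = 2 from rfl, show 7 * (7 ^ 2 - 1) = 336 from rfl] at h1
  omega

theorem card_alt_five : Nat.card (alternatingGroup (Fin 5)) = 60 := by
  rw [nat_card_alternatingGroup, Nat.card_fin]; rfl

end Cfsg.Agent.SelfCentThree
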