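import Cfsg.Agent.SelfCentThree.Fpf
import Mathlib.GroupTheory.Transfer
import Mathlib.GroupTheory.Subgroup.Simple

/-!
# Consequences for the whole group
-/

set_option autoImplicit false

namespace Cfsg.Agent.SelfCentThree

open Subgroup

universe u

variable {G : Type u} [Group G] {x : G}

theorem Sc.inv_eq (h : Sc x) : x⁻¹ = x * x :=
  inv_eq_of_mul_eq_one_right (a := x) (by rw [← h.cube, pow_succ, sq]; group)

theorem Sc.inv_ne (h : Sc x) : x⁻¹ ≠ x := fun e => h.ne (by
  have h1 : x * x = x := h.inv_eq.symm.trans e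
  simpa using h1)

theorem Sc.inv (h : Sc x) : Sc x⁻¹ :=
  ⟨by rw [inv_pow, h.cube, inv_one], inv_ne_one.2 h.ne, by
    rw [zpowers_inv, ← h.cent]
    ext g
    simp only [mem_centralizer_singleton_iff]
    exact Commute.inv_right_iff⟩

theorem Sc.conj (h : Sc x) (k : G) : Sc (k * x * k⁻¹) := by
  refine ⟨by rw [conj_pow, h.cube, mul_one, mul_inv_cancel], fun e => h.ne (conj_eq_one_iff.1 e), ?_⟩
  refine le_antisymm (fun g hg => ?_) (zpowers_le.2 (mem_centralizer_singleton_iff.2 rfl))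
  rw [mem_centralizer_singleton_iff] at hg
  obtain ⟨i, hi⟩ := mem_zpowers_iff.1 (h.mem_zpowers_of_commute (g := k⁻¹ * g * k) (by
    calc k⁻¹ * g * k * x = k⁻¹ * (g * (k * x * k⁻¹)) * k := by group
      _ = k⁻¹ * (k * x * k⁻¹ * g) * k := by rw [hg]
      _ = x * (k⁻¹ * g * k) := by group))
  exact mem_zpowers_iff.2 ⟨i, by rw [conj_zpow, hi]; group⟩

variable [Finite G]

theorem Sc.card_sylow (h : Sc x) (P : Sylow 3 G) : Nat.card (P : Subgroup G) = 3 := by
  have : Fact (Nat.Prime 3) := ⟨Nat.prime_three⟩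
  have hz : IsPGroup 3 (zpowers x) := IsPGroup.of_card (n := 1) (by rw [h.card_zpowers, pow_one])
  obtain ⟨Q, hQ⟩ := hz.exists_le_sylow
  rw [Nat.card_congr (P.equiv Q).toEquiv]
  have hle : (Q : Subgroup G) ≤ zpowers x := by
    have : Nontrivial (Q : Subgroup G) :=
      ⟨⟨⟨x, hQ (mem_zpowers x)⟩, 1, fun e => h.ne (congrArg Subtype.val e)⟩⟩
    have := Q.2.center_nontrivial
    obtain ⟨⟨⟨z, hzQ⟩, hzc⟩, hz1⟩ := exists_ne (1 : center (Q : Subgroup G))
    have hzne : z ≠ 1 := fun e => hz1 (Subtype.ext (Subtype.ext e))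
    rw [mem_center_iff] at hzc
    have hcomm : ∀ q ∈ (Q : Subgroup G), q * z = z * q := fun q hq => congrArg Subtype.val (hzc ⟨q, hq⟩)
    intro q hq
    refine h.mem_zpowers_of_commute ?_
    rcases h.eq_cases (h.mem_zpowers_of_commute (hcomm x (hQ (mem_zpowers x))).symm) with e | e | e
    · exact absurd e hzne
    · exact e ▸ hcomm q hq
    · have h1 := hcomm q hq
      rw [e, ← h.inv_eq] at h1
      exact (Commute.inv_right_iff.1 h1)
  rw [le_antisymm hle hQ, h.card_zpowers]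

theorem Sc.not_nine_dvd (h : Sc x) : ¬ 9 ∣ Nat.card G := fun h9 => by
  have : Fact (Nat.Prime 3) := ⟨Nat.prime_three⟩
  obtain ⟨H, hH⟩ := Sylow.exists_subgroup_card_pow_prime 3 (show 3 ^ 2 ∣ Nat.card G by simpa using h9)
  obtain ⟨P, hP⟩ := (IsPGroup.of_card hH).exists_le_sylow
  have := card_dvd_of_le hP
  rw [hH, h.card_sylow P] at this
  exact absurd (Nat.le_of_dvd (by norm_num) this) (by norm_num)

theorem Sc.three_dvd (h : Sc x) : 3 ∣ Nat.card G := h.card_zpowers ▸ card_subgroup_dvd_card _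

theorem Sc.cover (h : Sc x) {g : G} (hg : g ^ 3 = 1) (hg1 : g ≠ 1) :
    ∃ k, k * g * k⁻¹ = x ∨ k * g * k⁻¹ = x⁻¹ := by
  have : Fact (Nat.Prime 3) := ⟨Nat.prime_three⟩
  have hgp : IsPGroup 3 (zpowers g) := IsPGroup.of_card (n := 1)
    (by rw [Nat.card_zpowers, orderOf_eq_prime hg hg1, pow_one])
  have hxp : IsPGroup 3 (zpowers x) := IsPGroup.of_card (n := 1) (by rw [h.card_zpowers, pow_one])
  obtain ⟨P, hP⟩ := hgp.exists_le_sylow
  obtain ⟨Q, hQ⟩ := hxp.exists_le_sylow
  have hQeq : (zpowers x) = Q := eq_of_le_of_card_ge hQ (by rw [h.card_sylow Q, h.card_zpowers])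
  obtain ⟨k, hk⟩ := MulAction.exists_smul_eq G P Q
  refine ⟨k, ?_⟩
  have hm : k * g * k⁻¹ ∈ zpowers x := by
    rw [hQeq, ← hk, Sylow.coe_subgroup_smul]
    exact ⟨g, hP (mem_zpowers g), rfl⟩
  rcases h.eq_cases hm with e | e | e
  · exact absurd (conj_eq_one_iff.1 e) hg1
  · exact Or.inl e
  · exact Or.inr (e.trans h.inv_eq.symm)

theorem Sc.mem_normalizer_cases (h : Sc x) {g : G} (hg : g ∈ normalizer (zpowers x : Set G)) :
    g ∈ zpowers x ∨ g * x * g⁻¹ = x⁻¹ := by
  rcases h.eq_cases ((mem_normalizer_iff.1 hg x).1 (mem_zpowers x)) with e | e | e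
  · exact absurd (conj_eq_one_iff.1 e) h.ne
  · exact Or.inl (h.mem_zpowers_of_commute (mul_inv_eq_iff_eq_mul.1 e))
  · exact Or.inr (e.trans h.inv_eq.symm)

/-- A centraliser of an element not conjugate into the given subgroup has order prime to three. -/
theorem Sc.not_three_dvd_centralizer (h : Sc x) {v : G} (hv : v ≠ 1) (h3 : v ^ 3 ≠ 1) :
    ¬ 3 ∣ Nat.card (centralizer ({v} : Set G)) := fun hd => by
  have : Fact (Nat.Prime 3) := ⟨Nat.prime_three⟩
  obtain ⟨⟨z, hz⟩, hzo⟩ := exists_prime_orderOf_dvd_card' 3 hd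
  rw [orderOf_mk] at hzo
  obtain ⟨k, hk⟩ := h.cover (g := z) (by rw [← hzo]; exact pow_orderOf_eq_one z)
    (fun e => by rw [e, orderOf_one] at hzo; omega)
  rw [mem_centralizer_singleton_iff] at hz
  have hc : k * v * k⁻¹ * x = x * (k * v * k⁻¹) := by
    rcases hk with e | e
    · rw [← e]
      calc k * v * k⁻¹ * (k * z * k⁻¹) = k * (v * z) * k⁻¹ := by group
        _ = k * z * k⁻¹ * (k * v * k⁻¹) := by rw [← hz]; group
    · have : k * v * k⁻¹ * x⁻¹ = x⁻¹ * (k * v * k⁻¹) := by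
        rw [← e]
        calc k * v * k⁻¹ * (k * z * k⁻¹) = k * (v * z) * k⁻¹ := by group
          _ = k * z * k⁻¹ * (k * v * k⁻¹) := by rw [← hz]; group
      exact Commute.inv_right_iff.1 this
  have h4 : (k * v * k⁻¹) ^ 3 = 1 := by
    rcases h.eq_cases (h.mem_zpowers_of_commute hc) with e | e | e <;> rw [e]
    · exact one_pow _
    · exact h.cube
    · rw [← h.inv_eq, inv_pow, h.cube, inv_one]
  rw [conj_pow, conj_eq_one_iff] at h4
  exact h3 h4

theorem Sc.exists_inverter [IsSimpleGroup G] (h : Sc x) (hna : ¬ IsMulCommutative G) :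
    ∃ t : G, t * t = 1 ∧ t ≠ 1 ∧ t * x * t⁻¹ = x⁻¹ := by
  have : Fact (Nat.Prime 3) := ⟨Nat.prime_three⟩
  by_cases hinv : ∃ g : G, g * x * g⁻¹ = x⁻¹
  · obtain ⟨g, hg⟩ := hinv
    have hg2 : g * g ∈ zpowers x := h.mem_zpowers_of_commute (by
      have : g * g * x * (g * g)⁻¹ = x := by
        calc g * g * x * (g * g)⁻¹ = g * (g * x * g⁻¹) * g⁻¹ := by group
          _ = g * x⁻¹ * g⁻¹ := by rw [hg]
          _ = (g * x * g⁻¹)⁻¹ := by group
          _ = x := by rw [hg, inv_inv]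
      exact mul_inv_eq_iff_eq_mul.1 this)
    have hc : Commute x (g * g) := (mem_centralizer_singleton_iff.1 (h.cent ▸ hg2)).symm
    have ht : (g * (g * g)) * x * (g * (g * g))⁻¹ = x⁻¹ := by
      calc (g * (g * g)) * x * (g * (g * g))⁻¹ = g * ((g * g) * x * (g * g)⁻¹) * g⁻¹ := by group
        _ = x⁻¹ := by rw [← hc.eq, mul_inv_cancel_right, hg]
    refine ⟨g * (g * g), ?_, fun e => h.inv_ne ?_, ht⟩
    · have : (g * g) ^ 3 = 1 := by
        rcases h.eq_cases hg2 with e | e | e <;> rw [e]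
        · exact one_pow _
        · exact h.cube
        · rw [← h.inv_eq, inv_pow, h.cube, inv_one]
      rw [← this, pow_succ, sq]
      group
    · rw [← ht, e]; group
  · exfalso
    have hxp : IsPGroup 3 (zpowers x) := IsPGroup.of_card (n := 1) (by rw [h.card_zpowers, pow_one])
    obtain ⟨P, hP⟩ := hxp.exists_le_sylow
    have hPeq : (zpowers x) = P := eq_of_le_of_card_ge hP (by rw [h.card_sylow P, h.card_zpowers])
    have hle : normalizer ((P : Subgroup G) : Set G) ≤ centralizer ((P : Subgroup G) : Set G) := by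
      rw [← hPeq]
      intro g hg
      rcases h.mem_normalizer_cases hg with e | e
      · rw [mem_centralizer_iff]
        intro y hy
        obtain ⟨i, rfl⟩ := mem_zpowers_iff.1 hy
        obtain ⟨j, rfl⟩ := mem_zpowers_iff.1 e
        exact ((Commute.refl x).zpow_zpow i j).eq
      · exact absurd ⟨g, e⟩ hinv
    have hco := MonoidHom.ker_transferSylow_isComplement' P hle
    have hnt : (P : Subgroup G) ≠ ⊥ := fun e => by
      have := h.card_sylow P
      rw [e, card_bot] at this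
      omega
    rcases (MonoidHom.normal_ker (MonoidHom.transferSylow P hle)).eq_bot_or_eq_top with e | e
    · rw [e, isComplement'_bot_left] at hco
      refine hna ⟨⟨fun a b => ?_⟩⟩
      have hc : ∀ g : G, g ∈ zpowers x := fun g => by rw [hPeq, hco]; trivial
      obtain ⟨i, rfl⟩ := mem_zpowers_iff.1 (hc a)
      obtain ⟨j, rfl⟩ := mem_zpowers_iff.1 (hc b)
      exact ((Commute.refl x).zpow_zpow i j).eq
    · rw [e, isComplement'_top_left] at hco
      exact hnt hco

end Cfsg.Agent.SelfCentThree
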