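import Cfsg.Agent.SelfCentThree.Basics
import Cfsg.Agent.ThreeTINine.Count
import Cfsg.Agent.Char.Linear
import Cfsg.Agent.CharArith.Basic

/-!
# The three characters that do not vanish on the element of order three
-/

set_option autoImplicit false

namespace Cfsg.Agent.SelfCentThree

open Cfsg Cfsg.Agent Subgroup
open scoped ComplexConjugate

universe u

variable {ι : Type u} [Fintype ι] [DecidableEq ι]

theorem two_norm' (f d : ι → ℤ) (hd : ∀ y, 0 < d y) (h2 : ∑ y, f y * f y = 2)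
    (h0 : ∑ y, f y * d y = -1) :
    ∃ p q, p ≠ q ∧ f p = 1 ∧ f q = -1 ∧ d q = d p + 1 ∧ ∀ y, y ≠ p → y ≠ q → f y = 0 := by
  set S := Finset.univ.filter fun y => f y ≠ 0
  have hS : ∑ y ∈ S, f y * f y = 2 := by
    rw [← h2]
    exact Finset.sum_filter_of_ne fun y _ hy e => hy (by simp [e])
  have h1 : ∀ y ∈ S, f y = 1 ∨ f y = -1 := fun y hy => by
    have hle : f y * f y ≤ 2 := hS ▸ Finset.single_le_sum (f := fun y => f y * f y)
      (fun z _ => mul_self_nonneg _) hy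
    have hne := (Finset.mem_filter.1 hy).2
    have : -1 ≤ f y ∧ f y ≤ 1 := ⟨by nlinarith, by nlinarith⟩
    omega
  have hc : S.card = 2 := by
    have : ∑ y ∈ S, f y * f y = ∑ y ∈ S, (1 : ℤ) := Finset.sum_congr rfl fun y hy => by
      rcases h1 y hy with e | e <;> simp [e]
    rw [this, Finset.sum_const, nsmul_eq_mul, mul_one] at hS
    exact_mod_cast hS
  obtain ⟨p, q, hpq, hSpq⟩ := Finset.card_eq_two.1 hc
  have hoff : ∀ y, y ≠ p → y ≠ q → f y = 0 := fun y hp hq => by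
    by_contra hne
    have : y ∈ S := Finset.mem_filter.2 ⟨Finset.mem_univ _, hne⟩
    rw [hSpq] at this
    simp [hp, hq] at this
  have hsum : f p * d p + f q * d q = -1 := by
    rw [← h0, ← Finset.sum_subset (Finset.subset_univ ({p, q} : Finset ι)), Finset.sum_pair hpq]
    intro y _ hy
    simp only [Finset.mem_insert, Finset.mem_singleton, not_or] at hy
    simp [hoff y hy.1 hy.2]
  have := hd p
  have := hd q
  rcases h1 p (by simp [hSpq]) with ep | ep <;> rcases h1 q (by simp [hSpq]) with eq | eq <;>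
    rw [ep, eq] at hsum
  · omega
  · exact ⟨p, q, hpq, ep, eq, by omega, hoff⟩
  · exact ⟨q, p, hpq.symm, eq, ep, by omega, fun y hq hp => hoff y hp hq⟩
  · omega

variable {G : Type u} [Group G] [Fintype G] {x : G}

open scoped Classical in
/-- A structure constant as a count of elements. -/
theorem triple (a b c : G) :
    ∑ χ : IrrCharacter G, (χ : G → ℂ) a * (χ : G → ℂ) b * conj ((χ : G → ℂ) c) / (χ : G → ℂ) 1 =
      (Nat.card (centralizer ({c} : Set G)) : ℂ) *
        ((Finset.univ.filter fun g : G => IsConj (g * a * g⁻¹ * b) c).card : ℂ) / Nat.card G := by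
  have hG : (Nat.card G : ℂ) ≠ 0 := Char.card_ne_zero
  have e1 : ∀ χ : IrrCharacter G,
      (χ : G → ℂ) a * (χ : G → ℂ) b * conj ((χ : G → ℂ) c) / (χ : G → ℂ) 1 =
        (Nat.card G : ℂ)⁻¹ * ∑ g, (χ : G → ℂ) (g * a * g⁻¹ * b) * conj ((χ : G → ℂ) c) := fun χ => by
    have h1 := Char.IsIrr.one_ne_zero χ.2
    have h2 := CharArith.classMult χ.2 a b
    rw [← Finset.sum_mul]
    field_simp
    linear_combination (-conj ((χ : G → ℂ) c)) * h2
  rw [Finset.sum_congr rfl fun χ _ => e1 χ, ← Finset.mul_sum, Finset.sum_comm]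
  simp only [ThreeTINine.sum_mul_conj]
  have e2 : ∀ (k : ℂ) (p : G → Prop), (∑ g : G, if p g then k else 0) =
      ((Finset.univ.filter p).card : ℂ) * k := fun k p => by
    rw [← Finset.sum_filter, Finset.sum_const, nsmul_eq_mul]
  erw [e2]
  field_simp
  congr!

variable [IsSimpleGroup G]

theorem isConj_inv (h : Sc x) (hna : ¬ IsMulCommutative G) : IsConj x x⁻¹ := by
  obtain ⟨t, -, -, ht⟩ := h.exists_inverter hna
  exact isConj_iff.2 ⟨t, ht⟩

theorem isConj_of_cube (h : Sc x) (hna : ¬ IsMulCommutative G) {g : G} (hg : g ^ 3 = 1) (hg1 : g ≠ 1) :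
    IsConj g x := by
  obtain ⟨k, hk⟩ := h.cover hg hg1
  rcases hk with e | e
  · exact isConj_iff.2 ⟨k, e⟩
  · exact (isConj_iff.2 ⟨k, e⟩).trans (isConj_inv h hna).symm

/-- The data read off from the column of `x`. -/
theorem exists_three (h : Sc x) (hna : ¬ IsMulCommutative G) :
    ∃ (o θ η : IrrCharacter G) (f : ℤ), 1 ≤ f ∧ o ≠ θ ∧ o ≠ η ∧ θ ≠ η ∧
      (∀ g, (o : G → ℂ) g = 1) ∧ (θ : G → ℂ) 1 = f ∧ (η : G → ℂ) 1 = f + 1 ∧
      (θ : G → ℂ) x = 1 ∧ (η : G → ℂ) x = -1 ∧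
      (∀ χ : IrrCharacter G, χ ≠ o → χ ≠ θ → χ ≠ η → (χ : G → ℂ) x = 0) := by
  classical
  have hx6 : x ^ 6 = 1 := by rw [show (6 : ℕ) = 3 * 2 from rfl, pow_mul, h.cube, one_pow]
  have hint : ∀ χ : IrrCharacter G, ∃ d b : ℤ, (χ : G → ℂ) 1 = d ∧ (χ : G → ℂ) x = b := fun χ => by
    obtain ⟨d, -, -, b, hd, -, -, hb, -⟩ :=
      ThreeKlein.six_values (Char.IsIrr.isCharacter χ.2) hx6 (isConj_inv h hna)
    exact ⟨d, b, hd, hb⟩
  choose d b hd hb using hint
  have hdpos : ∀ χ, 0 < d χ := fun χ => by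
    obtain ⟨n, hn, hn'⟩ := Char.IsIrr.degree χ.2
    have : (d χ : ℂ) = (n : ℂ) := (hd χ).symm.trans hn'
    have : d χ = (n : ℤ) := by exact_mod_cast this
    omega
  obtain ⟨o, ho⟩ : ∃ o : IrrCharacter G, (o : G → ℂ) = fun _ => 1 := ⟨⟨_, Char.isIrrCharacter_one⟩, rfl⟩
  have hbo : b o = 1 := by
    have := (hb o).symm.trans (congrFun ho x)
    exact_mod_cast this
  have hdo : d o = 1 := by
    have := (hd o).symm.trans (congrFun ho 1)
    exact_mod_cast this
  have hsq : ∑ χ, b χ * b χ = 3 := by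
    have := ThreeTINine.sum_mul_conj x x
    rw [if_pos (IsConj.refl x), h.cent, h.card_zpowers] at this
    simp only [hb, map_intCast] at this
    exact_mod_cast this
  have hdeg : ∑ χ, b χ * d χ = 0 := by
    have := ThreeTINine.sum_mul_conj x 1
    rw [if_neg fun e => h.ne (isConj_one_left.1 e)] at this
    simp only [hb, hd, map_intCast] at this
    exact_mod_cast this
  let f : IrrCharacter G → ℤ := Function.update b o 0
  have hf : ∀ χ, χ ≠ o → f χ = b χ := fun χ hχ => Function.update_of_ne hχ _ _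
  have hfo : f o = 0 := Function.update_self _ _ _
  have hs2 : ∑ χ, f χ * f χ = 2 := by
    rw [← Finset.add_sum_erase _ _ (Finset.mem_univ o), hfo]
    rw [← Finset.add_sum_erase _ _ (Finset.mem_univ o), hbo] at hsq
    rw [Finset.sum_congr rfl fun χ hχ => by rw [hf χ (Finset.ne_of_mem_erase hχ)]]
    linarith
  have hs0 : ∑ χ, f χ * d χ = -1 := by
    rw [← Finset.add_sum_erase _ _ (Finset.mem_univ o), hfo]
    rw [← Finset.add_sum_erase _ _ (Finset.mem_univ o), hbo, hdo] at hdeg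
    rw [Finset.sum_congr rfl fun χ hχ => by rw [hf χ (Finset.ne_of_mem_erase hχ)]]
    linarith
  obtain ⟨p, q, hpq, hp, hq, hd1, hoff⟩ := two_norm' f d hdpos hs2 hs0
  have hpo : p ≠ o := fun e => by rw [e, hfo] at hp; exact zero_ne_one hp
  have hqo : q ≠ o := fun e => by rw [e, hfo] at hq; omega
  rw [hf p hpo] at hp
  rw [hf q hqo] at hq
  refine ⟨o, p, q, d p, hdpos p, hpo.symm, hqo.symm, hpq, fun g => congrFun ho g, hd p, ?_, ?_, ?_,
    fun χ h1 h2 h3 => ?_⟩
  · rw [hd q, hd1]; push_cast; rfl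
  · rw [hb p, hp]; norm_num
  · rw [hb q, hq]; norm_num
  · rw [hb χ, ← hf χ h1, hoff χ h2 h3]; norm_num

omit [IsSimpleGroup G] in
open scoped Classical in
theorem column {o θ η : IrrCharacter G} (hoθ : o ≠ θ) (hoη : o ≠ η) (hθη : θ ≠ η)
    (ho : ∀ g, (o : G → ℂ) g = 1) (hθ : (θ : G → ℂ) x = 1) (hη : (η : G → ℂ) x = -1)
    (h0 : ∀ χ : IrrCharacter G, χ ≠ o → χ ≠ θ → χ ≠ η → (χ : G → ℂ) x = 0) {v : G}
    (hv : ¬ IsConj v x) : (η : G → ℂ) v = 1 + (θ : G → ℂ) v := by
  have hs := ThreeTINine.sum_mul_conj v x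
  rw [if_neg hv, ← Finset.sum_subset (Finset.subset_univ ({o, θ, η} : Finset (IrrCharacter G))),
    Finset.sum_insert (by simp [hoθ, hoη]), Finset.sum_pair hθη] at hs
  · simp only [ho, hθ, hη, map_one, map_neg] at hs
    linear_combination -hs
  · intro χ _ hχ
    simp only [Finset.mem_insert, Finset.mem_singleton, not_or] at hχ
    rw [h0 χ hχ.1 hχ.2.1 hχ.2.2, map_zero, mul_zero]

open scoped Classical in
/-- The bound on centralisers. -/
theorem centralizer_bound (h : Sc x) (hna : ¬ IsMulCommutative G) {v : G} (hv : v ^ 3 ≠ 1) :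
    3 * Nat.card (centralizer ({v} : Set G)) ^ 2 ≤ 4 * Nat.card G := by
  obtain ⟨o, θ, η, f, hf, hoθ, hoη, hθη, ho, hθ1, hη1, hθx, hηx, h0⟩ := exists_three h hna
  have hv1 : v ≠ 1 := fun e => hv (by rw [e, one_pow])
  have hvx : ¬ IsConj v x := fun e => hv (by
    obtain ⟨k, hk⟩ := isConj_iff.1 e.symm
    rw [← hk, conj_pow, h.cube, mul_one, mul_inv_cancel])
  have hcol := column hoθ hoη hθη ho hθx hηx h0 hvx
  set b := (θ : G → ℂ) v
  have ht := triple v x v
  rw [← Finset.sum_subset (Finset.subset_univ ({o, θ, η} : Finset (IrrCharacter G))),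
    Finset.sum_insert (by simp [hoθ, hoη]), Finset.sum_pair hθη] at ht
  swap
  · intro χ _ hχ
    simp only [Finset.mem_insert, Finset.mem_singleton, not_or] at hχ
    rw [h0 χ hχ.1 hχ.2.1 hχ.2.2]
    simp
  simp only [ho, hθx, hηx, hθ1, hη1, hcol, map_one, mul_one, map_add, show (θ : G → ℂ) v = b from rfl] at ht
  set T := Finset.univ.filter fun g : G => IsConj (g * v * g⁻¹ * x) v
  set c := Nat.card (centralizer ({v} : Set G))
  have hG : (Nat.card G : ℂ) ≠ 0 := Char.card_ne_zero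
  have hfC : (f : ℂ) ≠ 0 := by exact_mod_cast (show f ≠ 0 by omega)
  have hf1C : (f : ℂ) + 1 ≠ 0 := by exact_mod_cast (show f + 1 ≠ 0 by omega)
  have key : ((f : ℂ) - b) * conj ((f : ℂ) - b) * Nat.card G =
      (c : ℂ) * (T.card : ℂ) * ((f : ℂ) * ((f : ℂ) + 1)) := by
    rw [map_sub, map_intCast]
    field_simp at ht
    linear_combination ht
  rw [Complex.mul_conj'] at key
  have keyR : ‖(f : ℂ) - b‖ ^ 2 * Nat.card G = (c : ℝ) * T.card * (f * (f + 1)) := by exact_mod_cast key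
  -- the value is not the degree
  have hne : b ≠ (f : ℂ) := fun e => by
    have hchar := Char.IsIrr.isCharacter θ.2
    rcases (inferInstance : (Char.kerSubgroup hchar).Normal).eq_bot_or_eq_top with e' | e'
    · have : v ∈ Char.kerSubgroup hchar := Char.mem_kerSubgroup hchar |>.2 (e.trans hθ1.symm)
      rw [e', mem_bot] at this
      exact hv1 this
    · refine hoθ (Subtype.ext (funext fun g => ?_))
      have hall : ∀ y, (θ : G → ℂ) y = f := fun y =>
        ((Char.mem_kerSubgroup hchar).1 (e' ▸ mem_top y)).trans hθ1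
      have h1f : (f : ℂ) = 1 := (hall x).symm.trans hθx
      rw [ho g, hall g, h1f]
  have hpos : 0 < ‖(f : ℂ) - b‖ ^ 2 := by
    have : (f : ℂ) - b ≠ 0 := sub_ne_zero.2 hne.symm
    positivity
  have hle : ‖(f : ℂ) - b‖ ≤ 2 * f := by
    have hb := Char.IsChar.norm_le (Char.IsIrr.isCharacter θ.2) v
    rw [hθ1, Complex.intCast_re] at hb
    have h1 := norm_sub_le (f : ℂ) b
    rw [Complex.norm_intCast, abs_of_nonneg (by exact_mod_cast (show (0 : ℤ) ≤ f by omega))] at h1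
    linarith
  have hTne : T.Nonempty := by
    rw [← Finset.card_pos]
    by_contra hz
    rw [show T.card = 0 by omega] at keyR
    have : (0 : ℝ) < ‖(f : ℂ) - b‖ ^ 2 * Nat.card G := mul_pos hpos (by exact_mod_cast Nat.card_pos)
    rw [keyR, Nat.cast_zero, mul_zero, zero_mul] at this
    exact lt_irrefl _ this
  obtain ⟨g₀, hg₀⟩ := hTne
  rw [Finset.mem_filter] at hg₀
  have hT : 3 * c ≤ T.card := by
    have hinj : Function.Injective
        (fun p : zpowers x × centralizer ({v} : Set G) => (p.1 : G) * g₀ * (p.2 : G)) := by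
      rintro ⟨⟨a, ha⟩, ⟨y, hy⟩⟩ ⟨⟨a', ha'⟩, ⟨y', hy'⟩⟩ e
      replace e : a * g₀ * y = a' * g₀ * y' := e
      have hz : g₀⁻¹ * (a'⁻¹ * a) * g₀ = y' * y⁻¹ := by
        calc g₀⁻¹ * (a'⁻¹ * a) * g₀ = g₀⁻¹ * a'⁻¹ * (a * g₀ * y) * y⁻¹ := by group
          _ = g₀⁻¹ * a'⁻¹ * (a' * g₀ * y') * y⁻¹ := by rw [e]
          _ = y' * y⁻¹ := by group
      have hmem : a'⁻¹ * a ∈ zpowers x := mul_mem (inv_mem ha') ha
      have hc3 : (a'⁻¹ * a) ^ 3 = 1 := by
        rcases h.eq_cases hmem with e | e | e <;> rw [e]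
        · exact one_pow _
        · exact h.cube
        · rw [← h.inv_eq, inv_pow, h.cube, inv_one]
      have h1 : a'⁻¹ * a = 1 := by
        by_contra hne1
        have hy3 : (y' * y⁻¹) ^ 3 = 1 := by
          rw [← hz, show g₀⁻¹ * (a'⁻¹ * a) * g₀ = g₀⁻¹ * (a'⁻¹ * a) * g₀⁻¹⁻¹ by group, conj_pow, hc3]
          group
        have hy1 : y' * y⁻¹ ≠ 1 := fun e1 => hne1 (by
          rw [e1] at hz
          have := congrArg (fun w => g₀ * w * g₀⁻¹) hz
          simpa [mul_assoc] using this)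
        refine h.not_three_dvd_centralizer hv1 hv ?_
        have hd := orderOf_dvd_natCard (⟨y' * y⁻¹, mul_mem hy' (inv_mem hy)⟩ : centralizer ({v} : Set G))
        have : Fact (Nat.Prime 3) := ⟨Nat.prime_three⟩
        rwa [orderOf_mk, orderOf_eq_prime hy3 hy1] at hd
      have ha2 : a = a' := (inv_mul_eq_one.1 h1).symm
      subst ha2
      have : y = y' := mul_left_cancel e
      subst this
      rfl
    have hsub : ∀ p : zpowers x × centralizer ({v} : Set G), (p.1 : G) * g₀ * (p.2 : G) ∈ T := by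
      rintro ⟨⟨a, ha⟩, ⟨y, hy⟩⟩
      refine Finset.mem_filter.2 ⟨Finset.mem_univ _, ?_⟩
      rw [mem_centralizer_singleton_iff] at hy
      obtain ⟨i, rfl⟩ := mem_zpowers_iff.1 ha
      refine IsConj.trans (isConj_iff.2 ⟨(x ^ i)⁻¹, ?_⟩) hg₀.2
      have hxc : Commute (x ^ i) x := (Commute.refl x).zpow_left i
      calc (x ^ i)⁻¹ * (x ^ i * g₀ * y * v * (x ^ i * g₀ * y)⁻¹ * x) * (x ^ i)⁻¹⁻¹
          = g₀ * (y * v) * y⁻¹ * g₀⁻¹ * ((x ^ i)⁻¹ * (x * x ^ i)) := by group
        _ = g₀ * (v * y) * y⁻¹ * g₀⁻¹ * ((x ^ i)⁻¹ * (x ^ i * x)) := by rw [hy, hxc.eq]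
        _ = g₀ * v * g₀⁻¹ * x := by group
    have hcard := Nat.card_le_card_of_injective
      (fun p => (⟨_, hsub p⟩ : T)) fun p q e => hinj (congrArg Subtype.val e)
    rw [Nat.card_prod, h.card_zpowers, Nat.card_eq_finsetCard] at hcard
    exact hcard
  have hfR : (1 : ℝ) ≤ f := by exact_mod_cast hf
  have hTR : 3 * (c : ℝ) ≤ T.card := by exact_mod_cast hT
  have hsq : ‖(f : ℂ) - b‖ ^ 2 ≤ 4 * (f : ℝ) * (f + 1) := by nlinarith [norm_nonneg ((f : ℂ) - b)]
  have hfin : (3 * (c : ℝ) ^ 2) * ((f : ℝ) * (f + 1)) ≤ (4 * Nat.card G) * ((f : ℝ) * (f + 1)) := by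
    have hg0 : (0 : ℝ) ≤ Nat.card G := Nat.cast_nonneg _
    have hc0 : (0 : ℝ) ≤ c := Nat.cast_nonneg _
    calc (3 * (c : ℝ) ^ 2) * ((f : ℝ) * (f + 1)) = (c : ℝ) * (3 * c) * ((f : ℝ) * (f + 1)) := by ring
      _ ≤ (c : ℝ) * T.card * ((f : ℝ) * (f + 1)) := by gcongr
      _ = ‖(f : ℂ) - b‖ ^ 2 * Nat.card G := keyR.symm
      _ ≤ 4 * (f : ℝ) * (f + 1) * Nat.card G := by gcongr
      _ = (4 * Nat.card G) * ((f : ℝ) * (f + 1)) := by ring
  have := le_of_mul_le_mul_right hfin (by positivity)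
  exact_mod_cast this

open scoped Classical in
/-- The elements producing three elements of order three with product one are numerous. -/
theorem card_le_nine_mul (h : Sc x) (hna : ¬ IsMulCommutative G) :
    Nat.card G ≤ 9 * (Finset.univ.filter fun a : G =>
      (a * x) ^ 3 = 1 ∧ a * x ≠ 1 ∧ (a * x⁻¹) ^ 3 = 1 ∧ a * x⁻¹ ≠ 1).card := by
  obtain ⟨o, θ, η, f, hf, hoθ, hoη, hθη, ho, hθ1, hη1, hθx, hηx, h0⟩ := exists_three h hna
  have ht := triple x x x
  rw [← Finset.sum_subset (Finset.subset_univ ({o, θ, η} : Finset (IrrCharacter G))),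
    Finset.sum_insert (by simp [hoθ, hoη]), Finset.sum_pair hθη, h.cent, h.card_zpowers] at ht
  swap
  · intro χ _ hχ
    simp only [Finset.mem_insert, Finset.mem_singleton, not_or] at hχ
    rw [h0 χ hχ.1 hχ.2.1 hχ.2.2]
    simp
  simp only [ho, hθx, hηx, hθ1, hη1, map_one, map_neg, mul_one, mul_neg, neg_neg] at ht
  set T := Finset.univ.filter fun g : G => IsConj (g * x * g⁻¹ * x) x
  have hG : (Nat.card G : ℂ) ≠ 0 := Char.card_ne_zero
  have hfC : (f : ℂ) ≠ 0 := by exact_mod_cast (show f ≠ 0 by omega)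
  have hf1C : (f : ℂ) + 1 ≠ 0 := by exact_mod_cast (show f + 1 ≠ 0 by omega)
  have key : ((f : ℂ) * ((f : ℂ) + 1) + 1) * Nat.card G = 3 * (T.card : ℂ) * ((f : ℂ) * ((f : ℂ) + 1)) := by
    push_cast at ht
    field_simp at ht
    linear_combination ht
  have keyZ : (f * (f + 1) + 1) * (Nat.card G : ℤ) = 3 * (T.card : ℤ) * (f * (f + 1)) := by exact_mod_cast key
  have hle : (Nat.card G : ℤ) ≤ 3 * T.card := by
    have hp : (0 : ℤ) < f * (f + 1) := by positivity
    have hg : (0 : ℤ) ≤ Nat.card G := Int.natCast_nonneg _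
    nlinarith
  set A := Finset.univ.filter fun a : G =>
    (a * x) ^ 3 = 1 ∧ a * x ≠ 1 ∧ (a * x⁻¹) ^ 3 = 1 ∧ a * x⁻¹ ≠ 1
  have hxx : x * x = x⁻¹ := h.inv_eq.symm
  have hTA : T.card ≤ 3 * A.card := by
    refine (Finset.card_le_mul_card_image (f := fun g => g * x * g⁻¹ * x⁻¹) T 3 ?_).trans
      (Nat.mul_le_mul_left 3 (Finset.card_le_card ?_))
    · intro a ha
      obtain ⟨g₀, -, rfl⟩ := Finset.mem_image.1 ha
      have hsub : (T.filter fun g => g * x * g⁻¹ * x⁻¹ = g₀ * x * g₀⁻¹ * x⁻¹) ⊆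
          ({g₀, g₀ * x, g₀ * (x * x)} : Finset G) := by
        intro g hg
        have e := mul_right_cancel (Finset.mem_filter.1 hg).2
        have hm : g₀⁻¹ * g ∈ zpowers x := h.mem_zpowers_of_commute (by
          calc g₀⁻¹ * g * x = g₀⁻¹ * (g * x * g⁻¹) * g := by group
            _ = g₀⁻¹ * (g₀ * x * g₀⁻¹) * g := by rw [e]
            _ = x * (g₀⁻¹ * g) := by group)
        simp only [Finset.mem_insert, Finset.mem_singleton]
        rcases h.eq_cases hm with e1 | e1 | e1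
        · exact Or.inl (inv_mul_eq_one.1 e1).symm
        · exact Or.inr (Or.inl (inv_mul_eq_iff_eq_mul.1 e1))
        · exact Or.inr (Or.inr (inv_mul_eq_iff_eq_mul.1 e1))
      exact (Finset.card_le_card hsub).trans Finset.card_le_three
    · intro a ha
      obtain ⟨g, hg, rfl⟩ := Finset.mem_image.1 ha
      have hg' := (Finset.mem_filter.1 hg).2
      have e1 : g * x * g⁻¹ * x⁻¹ * x = g * x * g⁻¹ := by group
      have e2 : g * x * g⁻¹ * x⁻¹ * x⁻¹ = g * x * g⁻¹ * x := by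
        rw [mul_assoc (g * x * g⁻¹), ← mul_inv_rev, hxx, inv_inv]
      simp only [A, Finset.mem_filter, Finset.mem_univ, true_and, e1, e2]
      refine ⟨by rw [conj_pow, h.cube, mul_one, mul_inv_cancel], fun e => h.ne (conj_eq_one_iff.1 e),
        ?_, fun e => ?_⟩
      · obtain ⟨k, hk⟩ := isConj_iff.1 hg'.symm
        rw [← hk, conj_pow, h.cube, mul_one, mul_inv_cancel]
      · rw [e] at hg'
        exact h.ne (isConj_one_right.1 hg')
  have : (T.card : ℤ) ≤ 3 * A.card := by exact_mod_cast hTA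
  omega

end Cfsg.Agent.SelfCentThree
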