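import Cfsg.Agent.SelfCentThree.Count
import Cfsg.Agent.S0496
import Cfsg.Agent.Classical.SmallSimple
import Cfsg.Agent.Classical.SmallPSL

/-!
# The simple groups with a self-centralising subgroup of order three
-/

set_option autoImplicit false

namespace Cfsg.Agent.SelfCentThree

open Subgroup

universe u

/-- The sum of a family of bounded numbers whose product is small. -/
theorem sum_le_of_prod_le {B : ℕ} : ∀ (k : ℕ) (s : Multiset ℕ), Multiset.card s = k →
    (∀ m ∈ s, 4 ≤ m ∧ m ≤ B) → 2 * s.prod ≤ B ^ 2 → 2 * s.sum ≤ 3 * B := by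
  intro k
  induction k using Nat.strong_induction_on with
  | _ k ih =>
    intro s hk hs hp
    rcases k with _ | _ | _ | k
    · rw [Multiset.card_eq_zero.1 hk]; simp
    · obtain ⟨a, rfl⟩ := Multiset.card_eq_one.1 hk
      have := hs a (Multiset.mem_singleton_self a)
      rw [Multiset.sum_singleton]; omega
    · obtain ⟨a, b, rfl⟩ := Multiset.card_eq_two.1 hk
      have ha := hs a (by simp)
      have hb := hs b (by simp)
      simp only [Multiset.insert_eq_cons, Multiset.sum_cons, Multiset.prod_cons, Multiset.sum_singleton,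
        Multiset.prod_singleton] at hp ⊢
      obtain ⟨i, hi⟩ := Nat.exists_eq_add_of_le ha.2
      obtain ⟨j, hj⟩ := Nat.exists_eq_add_of_le hb.2
      by_contra hcon
      push Not at hcon
      nlinarith
    · -- split off the two smallest elements
      have hne : s.toFinset.Nonempty := by
        rw [Multiset.toFinset_nonempty]; intro e; rw [e] at hk; simp at hk
      obtain ⟨a, ha, hamin⟩ := s.toFinset.exists_min_image id hne
      rw [Multiset.mem_toFinset] at ha
      obtain ⟨t, rfl⟩ := Multiset.exists_cons_of_mem ha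
      rw [Multiset.card_cons] at hk
      have hne' : t.toFinset.Nonempty := by
        rw [Multiset.toFinset_nonempty]; intro e; rw [e] at hk; simp at hk
      obtain ⟨b, hb, hbmin⟩ := t.toFinset.exists_min_image id hne'
      rw [Multiset.mem_toFinset] at hb
      obtain ⟨w, rfl⟩ := Multiset.exists_cons_of_mem hb
      rw [Multiset.card_cons] at hk
      have hab : a ≤ b := hamin b (by simp)
      have ha4 := hs a (by simp)
      have hb4 := hs b (by simp)
      have hw : ∀ m ∈ w, b ≤ m ∧ 4 ≤ m ∧ m ≤ B := fun m hm =>
        ⟨hbmin m (by simp [hm]), hs m (by simp [hm])⟩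
      simp only [Multiset.sum_cons, Multiset.prod_cons] at hp ⊢
      rcases k with _ | k
      · -- three elements
        obtain ⟨c, rfl⟩ := Multiset.card_eq_one.1 (show Multiset.card w = 1 by omega)
        obtain ⟨hbc, hc4, hcB⟩ := hw c (Multiset.mem_singleton_self c)
        rw [Multiset.prod_singleton] at hp
        rw [Multiset.sum_singleton]
        have h8 : 8 * (b * c) ≤ B ^ 2 := by nlinarith [ha4.1, Nat.zero_le (b * c)]
        have haaa : 2 * (a * a * a) ≤ B ^ 2 := by nlinarith [Nat.mul_le_mul hab (hab.trans hbc)]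
        have hB12 : 12 ≤ B := by nlinarith [Nat.mul_le_mul (Nat.mul_le_mul ha4.1 ha4.1) ha4.1]
        have hbc' : 8 * (b + c) ≤ 9 * B := by
          obtain ⟨i, hi⟩ := Nat.exists_eq_add_of_le hb4.2
          obtain ⟨j, hj⟩ := Nat.exists_eq_add_of_le hcB
          by_contra hcon
          push Not at hcon
          nlinarith
        have ha' : 8 * a ≤ 3 * B := by
          by_contra hcon
          push Not at hcon
          nlinarith [Nat.mul_le_mul (Nat.mul_le_mul hcon.le hcon.le) hcon.le,
            Nat.mul_le_mul_right (B * B) hB12]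
        omega
      · -- merge
        have habB : a * b ≤ B := by
          obtain ⟨c, d, r, rfl⟩ : ∃ c d r, w = c ::ₘ d ::ₘ r := by
            obtain ⟨c, hc⟩ := Multiset.card_pos_iff_exists_mem.1 (show 0 < Multiset.card w by omega)
            obtain ⟨r, rfl⟩ := Multiset.exists_cons_of_mem hc
            rw [Multiset.card_cons] at hk
            obtain ⟨d, hd⟩ := Multiset.card_pos_iff_exists_mem.1 (show 0 < Multiset.card r by omega)
            obtain ⟨r', rfl⟩ := Multiset.exists_cons_of_mem hd
            exact ⟨c, d, r', rfl⟩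
          have hc := hw c (by simp)
          have hd := hw d (by simp)
          have hr : 0 < r.prod := by
            refine Nat.pos_of_ne_zero fun e => ?_
            obtain ⟨-, h0, -⟩ := hw 0 (by simp [Multiset.prod_eq_zero_iff.1 e])
            omega
          simp only [Multiset.prod_cons] at hp
          have h1 : a * b ≤ c * d := Nat.mul_le_mul (hab.trans hc.1) hd.1
          have h2 : a * b * (a * b) ≤ a * (b * (c * (d * r.prod))) := by
            calc a * b * (a * b) ≤ a * b * (c * d * r.prod) :=
                  Nat.mul_le_mul_left _ (h1.trans (Nat.le_mul_of_pos_right _ hr))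
              _ = _ := by ring
          by_contra hcon
          push Not at hcon
          nlinarith [Nat.mul_le_mul hcon hcon]
        have := ih (Multiset.card ((a * b) ::ₘ w)) (by rw [Multiset.card_cons]; omega) ((a * b) ::ₘ w) rfl
          (fun m hm => by
            rcases Multiset.mem_cons.1 hm with rfl | hm'
            · exact ⟨by nlinarith, habB⟩
            · exact (hw m hm').2)
          (by rw [Multiset.prod_cons, mul_assoc a b]; exact hp)
        rw [Multiset.sum_cons] at this
        nlinarith

variable {G : Type u} [Group G] [Finite G] {x : G}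

/-- The order of the group. -/
theorem card_eq_of_ctx (hG : Ctx G) (h : Sc x) : Nat.card G = 60 ∨ Nat.card G = 168 := by
  classical
  have := hG.simple
  obtain ⟨R, hsum, hm, hprod⟩ := exists_reps hG h
  set B := Nat.sqrt (4 * Nat.card G / 3) + 1 with hB
  have hlo : 3 * (B - 1) ^ 2 ≤ 4 * Nat.card G := by
    have h1 := Nat.sqrt_le' (4 * Nat.card G / 3)
    rw [hB, Nat.add_sub_cancel]
    omega
  have hhi : 4 * Nat.card G < 3 * B ^ 2 := by
    have h1 := Nat.lt_succ_sqrt' (4 * Nat.card G / 3)
    rw [← Nat.add_one, ← hB] at h1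
    omega
  have hmB : ∀ M ∈ R, Nat.card M ≤ B := fun M hM => by
    obtain ⟨-, h2, -⟩ := hm M hM
    by_contra hcon
    push Not at hcon
    have := Nat.pow_le_pow_left hcon.le 2
    omega
  have hP : 2 * ∏ M ∈ R, Nat.card M ≤ B ^ 2 := by
    have := Nat.le_of_dvd (Nat.mul_pos two_pos Nat.card_pos) hprod
    omega
  have h3 := sum_le_of_prod_le (B := B) _ (R.1.map fun M : Subgroup G => Nat.card M) rfl
    (fun m hm' => by
      obtain ⟨M, hM, rfl⟩ := Multiset.mem_map.1 hm'
      exact ⟨(hm M hM).1, hmB M hM⟩) hP
  have hsum' : Nat.card G ≤ 9 * (1 + 3 * B) := by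
    refine hsum.trans (Nat.mul_le_mul_left 9 (Nat.add_le_add_left (le_trans ?_ h3) 1))
    rw [← Finset.mul_sum]
    exact Nat.mul_le_mul_left 2 (Finset.sum_le_sum fun M _ => Nat.sub_le _ _)
  have hB38 : B ≤ 38 := by
    by_contra hcon
    push Not at hcon
    obtain ⟨i, hi⟩ := Nat.exists_eq_add_of_le (show 39 ≤ B from hcon)
    rw [hi, show 39 + i - 1 = 38 + i by omega] at hlo
    rw [hi] at hsum'
    nlinarith
  have h1092 : Nat.card G ≤ 1035 := by omega
  have h9 := h.not_nine_dvd
  rcases S0496.result hG.na (h1092.trans (by norm_num)) with e | e | e | e | e | e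
  · exact Or.inl e
  · exact Or.inr e
  · exact absurd (e ▸ (by norm_num : 9 ∣ 360)) h9
  · exact absurd (e ▸ (by norm_num : 9 ∣ 504)) h9
  · exfalso
    have h4 : ∀ M ∈ R, Nat.card M = 4 := fun M hM => by
      obtain ⟨h4, hsq, hn3, hmod⟩ := hm M hM
      have hd : Nat.card M ∣ 220 := by
        refine Nat.Coprime.dvd_of_dvd_mul_left ((Nat.prime_three.coprime_iff_not_dvd.2 hn3).symm) ?_
        rw [show 3 * 220 = 660 from rfl, ← e]
        exact card_subgroup_dvd_card M
      have hone : ∀ p, p.Prime → p ∣ Nat.card M → ¬ p ^ 2 ∣ 220 → p % 3 = 1 := by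
        intro p hp hpd hp2
        have hv1 := Nat.Prime.factorization_pos_of_dvd hp Nat.card_pos.ne' hpd
        have hv2 : (Nat.card M).factorization p < 2 := not_le.1 fun hle =>
          hp2 (((pow_dvd_pow p hle).trans (Nat.ordProj_dvd _ p)).trans hd)
        have := hmod p hp hpd
        rwa [show (Nat.card M).factorization p = 1 by omega, pow_one] at this
      have h5 : ¬ 5 ∣ Nat.card M := fun hd5 => by
        have := hone 5 Nat.prime_five hd5 (by norm_num)
        norm_num at this
      have h11 : ¬ 11 ∣ Nat.card M := fun hd5 => by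
        have := hone 11 (by norm_num) hd5 (by norm_num)
        norm_num at this
      have hd4 : Nat.card M ∣ 4 := by
        refine Nat.Coprime.dvd_of_dvd_mul_left
          (((Nat.prime_five.coprime_iff_not_dvd.2 h5).mul_left
            (((by norm_num : Nat.Prime 11).coprime_iff_not_dvd).2 h11)).symm) ?_
        exact (show 5 * 11 * 4 = 220 from rfl).symm ▸ hd
      exact le_antisymm (Nat.le_of_dvd (by norm_num) hd4) h4
    rw [e, Finset.prod_congr rfl h4, Finset.prod_const] at hprod
    have hcard : R.card ≤ 1 := by
      by_contra hcon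
      push Not at hcon
      have h16 : (3 * 4 ^ 2 : ℕ) ∣ 2 * 660 := (Nat.mul_dvd_mul_left 3 (pow_dvd_pow 4 hcon)).trans hprod
      norm_num at h16
    rw [e, Finset.sum_congr rfl (fun M hM => by rw [h4 M hM] : ∀ M ∈ R, 2 * (Nat.card M - 1) = 6),
      Finset.sum_const, smul_eq_mul] at hsum
    omega
  · omega

/-- The conclusion for a simple group. -/
theorem concl_of_ctx (hG : Ctx G) (h : Sc x) : Concl G := by
  have := hG.simple
  rcases card_eq_of_ctx hG h with e | e
  · obtain ⟨f⟩ := Classical.Small.simple_sixty e
    refine Or.inr (Or.inl ⟨⊥, inferInstance, inferInstance, fun n hn => ?_, ⟨?_⟩⟩)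
    · rw [mem_bot.1 hn, one_pow]
    · exact QuotientGroup.quotientBot.trans f
  · exact Or.inr (Or.inr (Classical.Small.simple_168_psl e (ZMod.card 7)))

end Cfsg.Agent.SelfCentThree
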