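import Cfsg.Agent.SelfCentThree.Even

/-!
# At most two classes of maximal invariant subgroups of even order
-/

set_option autoImplicit false

namespace Cfsg.Agent.SelfCentThree

open Subgroup

universe u

variable {G : Type u} [Group G] [Finite G] {x x' : G} {M M' : Subgroup G}

theorem Inv.sq_of_card_four (h : Sc x) {K : Subgroup G} (hK : Inv x K) (h4 : Nat.card K = 4) {a : G}
    (ha : a ∈ K) : a * a = 1 := by
  by_contra hne
  have ho : orderOf a = 4 := by
    have hd : orderOf a ∣ 4 := h4 ▸ (orderOf_mk a ha ▸ orderOf_dvd_natCard (⟨a, ha⟩ : K))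
    have hle := Nat.le_of_dvd (by norm_num) hd
    have hp := orderOf_pos a
    have hsq : a ^ orderOf a = 1 := pow_orderOf_eq_one a
    generalize orderOf a = d at hd hle hp hsq
    interval_cases d
    · rw [pow_one] at hsq; exact absurd (by rw [hsq, one_mul]) hne
    · rw [sq] at hsq; exact absurd hsq hne
    · omega
    · rfl
  have hK' : zpowers a = K := eq_of_le_of_card_ge (zpowers_le.2 ha) (by rw [Nat.card_zpowers, ho, h4])
  have hm : x * a * x⁻¹ ∈ zpowers a := hK' ▸ conj_mem_of_norm hK.norm ha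
  obtain ⟨i, hi⟩ := mem_zpowers_iff.1 hm
  have hred : a ^ i = a ^ (i % 4) := by
    have := zpow_mod_orderOf a i
    rw [ho] at this
    exact this.symm
  have h2 : x * (x * a * x⁻¹) * x⁻¹ = a ^ (i * i) := by
    rw [← hi, ← conj_zpow, ← hi, ← zpow_mul]
  have h3 : a ^ (i * i * i) = a := by
    have e : x * (x * (x * a * x⁻¹) * x⁻¹) * x⁻¹ = a ^ (i * i * i) := by
      rw [h2, ← conj_zpow, ← hi, ← zpow_mul, mul_comm]
    rw [← e]
    calc x * (x * (x * a * x⁻¹) * x⁻¹) * x⁻¹ = x ^ 3 * a * (x ^ 3)⁻¹ := by rw [pow_succ, sq]; group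
      _ = a := by rw [h.cube]; group
  have hdvd : (4 : ℤ) ∣ i * i * i - 1 := by
    have := orderOf_dvd_iff_zpow_eq_one.2 (show a ^ (i * i * i - 1) = 1 by
      rw [zpow_sub, h3, zpow_one, mul_inv_cancel])
    rw [ho] at this
    exact_mod_cast this
  have hi1 : i % 4 = 1 := by
    have : (i * i * i - 1) % 4 = 0 := Int.emod_eq_zero_of_dvd hdvd
    have e : ∀ r : ℤ, i % 4 = r → (r * r * r - 1) % 4 = 0 := fun r hr => by
      rw [← hr]
      simpa [Int.sub_emod, Int.mul_emod] using this
    rcases (show i % 4 = 0 ∨ i % 4 = 1 ∨ i % 4 = 2 ∨ i % 4 = 3 by omega) with r | r | r | r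
    · exact absurd (e 0 r) (by norm_num)
    · exact r
    · exact absurd (e 2 r) (by norm_num)
    · exact absurd (e 3 r) (by norm_num)
  rw [hred, hi1, zpow_one] at hi
  have h1 : a = 1 := hK.fix h ha (mul_inv_eq_iff_eq_mul.1 hi.symm).symm
  exact hne (by rw [h1, mul_one])

theorem exists_pow_two {R : Subgroup G} (hR : IsPGroup 2 R) {s : G} (hs : s ∈ R) :
    ∃ j : ℕ, s ^ 2 ^ j = 1 := by
  obtain ⟨j, hj⟩ := hR ⟨s, hs⟩
  exact ⟨j, congrArg Subtype.val hj⟩

theorem EvenLoc.le_sylow (L : EvenLoc x M) (R : Subgroup G) (hR : IsPGroup 2 R) (hPR : part 2 M ≤ R) :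
    R = part 2 M ∨ Nat.card (part 2 M) = 4 ∨
      (Nat.card R = 2 * Nat.card (part 2 M) ∧ R ≤ normalizer (part 2 M : Set G)) := by
  have : Fact (Nat.Prime 2) := ⟨Nat.prime_two⟩
  set P := part 2 M with hP
  set A := R ⊓ normalizer (P : Set G) with hA
  have hPA : P ≤ A := le_inf hPR le_normalizer
  have hA2 : IsPGroup 2 A := hR.to_le inf_le_left
  have hd : Nat.card A ∣ 2 * Nat.card P := by
    have h1 : Nat.card A ∣ Nat.card (normalizer (M : Set G)) :=
      card_dvd_of_le (L.norm ▸ inf_le_right)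
    have h2 : Nat.card A ∣ 6 * Nat.card M := by
      rcases L.card with e | e <;> rw [e] at h1
      · exact h1.trans (Nat.mul_dvd_mul_right (by norm_num) _)
      · exact h1
    obtain ⟨k, hk⟩ := hA2.exists_card_eq
    rw [hk] at h2 ⊢
    rw [hP, card_part, ← pow_succ', Nat.pow_dvd_pow_iff_le_right one_lt_two]
    have h3 := (Nat.Prime.pow_dvd_iff_le_factorization Nat.prime_two
      (Nat.mul_ne_zero (by norm_num) Nat.card_pos.ne')).1 h2
    have h6 : (6 : ℕ).factorization 2 = 1 := by
      rw [show (6 : ℕ) = 2 * 3 from rfl, Nat.factorization_mul (by norm_num) (by norm_num),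
        Nat.prime_two.factorization, Nat.prime_three.factorization]
      simp
    rw [Nat.factorization_mul (by norm_num) Nat.card_pos.ne', Finsupp.add_apply, h6] at h3
    omega
  have hnc : NormalizerCondition R :=
    haveI := hR.isNilpotent
    Group.normalizerCondition_of_isNilpotent
  have hgrow : ∀ B : Subgroup G, B ≤ R → B ≠ R → ∃ r ∈ R, r ∈ normalizer (B : Set G) ∧ r ∉ B := by
    intro B hB hne
    have hlt : B.subgroupOf R < ⊤ := by
      rw [lt_top_iff_ne_top, Ne, subgroupOf_eq_top]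
      exact fun hle => hne (le_antisymm hB hle)
    obtain ⟨⟨r, hr⟩, hrN, hrB⟩ := SetLike.exists_of_lt (hnc _ hlt)
    refine ⟨r, hr, mem_normalizer_iff.2 fun a => ?_, hrB⟩
    constructor
    · intro ha
      have := (mem_normalizer_iff.1 hrN ⟨a, hB ha⟩).1 ha
      simpa [mem_subgroupOf] using this
    · intro ha
      have haR : a ∈ R := by
        have := mul_mem (mul_mem (inv_mem hr) (hB ha)) hr
        rwa [show r⁻¹ * (r * a * r⁻¹) * r = a by group] at this
      exact (mem_normalizer_iff.1 hrN ⟨a, haR⟩).2 (by simpa [mem_subgroupOf] using ha)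
  by_cases hRP : R = P
  · exact Or.inl hRP
  right
  have hAne : A ≠ P := fun e => by
    obtain ⟨r, hr, hrN, hrP⟩ := hgrow P hPR (Ne.symm hRP)
    exact hrP (e ▸ ⟨hr, hrN⟩)
  have hcA : Nat.card A = 2 * Nat.card P := by
    obtain ⟨c, hc⟩ := card_dvd_of_le hPA
    rw [hc, mul_comm 2, Nat.mul_dvd_mul_iff_left Nat.card_pos] at hd
    rcases (Nat.dvd_prime Nat.prime_two).1 hd with e | e
    · exact absurd (eq_of_le_of_card_ge hPA (by rw [hc, e, mul_one])).symm hAne
    · rw [hc, e, mul_comm]
  by_cases hAR : A = R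
  · exact Or.inr ⟨hAR ▸ hcA, hAR ▸ inf_le_right⟩
  left
  obtain ⟨r, hr, hrA, hrA'⟩ := hgrow A inf_le_left hAR
  have hrN : r ∉ normalizer (P : Set G) := fun h => hrA' ⟨hr, h⟩
  have hpc : part 2 (SelfCentThree.cj r M) = SelfCentThree.cj r P := part_cj r L.nil
  have hcjA : SelfCentThree.cj r A = A := cj_eq_iff.2 hrA
  refine L.pairA (L.cj r) A hA2 hPA ?_ inf_le_right ?_ ?_ hcA ?_
  · rw [hpc, ← hcjA]; exact cj_mono hPA
  · rw [hpc]
    intro a ha
    rw [show a = r * (r⁻¹ * a * r) * r⁻¹ by group, mem_normalizer_cj]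
    exact (mem_inf.1 (mem_cj.1 (hcjA.ge ha))).2
  · rw [hpc]
    exact fun e => hrN (cj_eq_iff.1 e.symm)
  · rw [hpc, card_cj]; exact hcA

/-- A large part excludes other parts of order four. -/
theorem EvenLoc.big_four (L : EvenLoc x M) (L' : EvenLoc x' M') (R : Subgroup G) (hR : IsPGroup 2 R)
    (hPR : part 2 M ≤ R) (hP'R : part 2 M' ≤ R) (h16 : 16 ≤ Nat.card (part 2 M))
    (h4 : Nat.card (part 2 M') = 4) : False := by
  classical
  have : Fact (Nat.Prime 2) := ⟨Nat.prime_two⟩
  set P := part 2 M with hPdef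
  set P' := part 2 M' with hP'def
  -- the centre of the large part
  set C := P ⊓ centralizer (P : Set G) with hCdef
  have hCI : Inv x C := L.inv_center
  obtain ⟨u, hu, hu2, hu1, huc⟩ := L.exists_central
  have huC : u ∈ C := ⟨hu, mem_centralizer_iff.2 fun a ha => huc a ha⟩
  have hCc : ∀ c ∈ C, ∀ a ∈ P, a * c = c * a := fun c hc a ha => mem_centralizer_iff.1 hc.2 a ha
  have hCcard : ∀ K : Subgroup G, Inv x K → K ≤ P → K ≠ ⊥ → 4 ≤ Nat.card K := by
    intro K hK hKP hKne
    have h1 := hK.card_mod L.sc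
    obtain ⟨k, hk⟩ := ((part_isPGroup (p := 2) (M := M)).to_le hKP).exists_card_eq
    rw [hk] at h1 ⊢
    rcases k with _ | _ | k
    · exact absurd (card_eq_one.1 (hk.trans (pow_zero 2))) hKne
    · norm_num at h1
    · exact le_trans (by norm_num) (Nat.pow_le_pow_right two_pos (show 2 ≤ k + 2 by omega))
  have hCne : C ≠ ⊥ := fun e => hu1 (mem_bot.1 (e ▸ huC))
  -- the small part is not inside the large one
  have hnle : ¬ P' ≤ P := fun hle => by
    have hCP' : C ≤ P' := fun c hc => by
      obtain ⟨j, hj⟩ := exists_pow_two hR (hPR hc.1)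
      exact L'.cent_le hj fun a ha => (hCc c hc a (hle ha)).symm
    have hCeq : C = P' := eq_of_le_of_card_ge hCP' (by rw [h4]; exact hCcard C hCI inf_le_left hCne)
    have hPP' : P ≤ P' := fun a ha => by
      obtain ⟨j, hj⟩ := exists_pow_two hR (hPR ha)
      exact L'.cent_le hj fun c hc => hCc c (hCeq ▸ hc) a ha
    have := Nat.le_of_dvd Nat.card_pos (card_dvd_of_le hPP')
    omega
  rcases L.le_sylow R hR hPR with e | e | ⟨hcR, hRN⟩
  · exact hnle (hP'R.trans e.le)
  · exact absurd (h16.trans_eq e) (by norm_num)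
  have hsq' : ∀ a ∈ P', a * a = 1 := fun a ha => L'.inv_part.sq_of_card_four L'.sc h4 ha
  obtain ⟨s, hs, hsP⟩ := SetLike.not_le_iff_exists.1 hnle
  have hs2 := hsq' s hs
  have hsi : s⁻¹ = s := inv_eq_of_mul_eq_one_right hs2
  have hsN : s ∈ normalizer (M : Set G) := L.norm ▸ hRN (hP'R hs)
  have hsPn : s ∈ normalizer (P : Set G) := hRN (hP'R hs)
  -- the two parts meet in a group of order two, central in the two-group
  have hPP : Nat.card (P ⊓ P' : Subgroup G) ≤ 2 := by
    obtain ⟨c, hc⟩ : Nat.card (P ⊓ P' : Subgroup G) ∣ 4 := h4 ▸ card_dvd_of_le inf_le_right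
    by_contra hgt
    rcases c with _ | _ | c
    · omega
    · have e := eq_of_le_of_card_ge (show P ⊓ P' ≤ P' from inf_le_right) (by omega)
      exact hnle (e ▸ inf_le_left)
    · nlinarith
  obtain ⟨z, hzP, hz1, hzR⟩ : ∃ z ∈ P, z ≠ 1 ∧ ∀ r ∈ R, r * z = z * r := by
    set PR := P.subgroupOf R
    have hPRc : Nat.card PR = Nat.card P := Nat.card_congr (subgroupOfEquivOfLe hPR).toEquiv
    have hn : PR.Normal := ⟨fun a ha r => by
      rw [mem_subgroupOf] at ha ⊢
      simpa using (mem_normalizer_iff.1 (hRN r.2) _).1 ha⟩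
    have hp : IsPGroup 2 (ConjAct R) := hR.of_equiv ConjAct.toConjAct
    have hd : 2 ∣ Nat.card PR := by
      rw [hPRc, hPdef, card_part]
      refine dvd_pow_self 2 fun e => ?_
      rw [hPdef, card_part, e] at h16
      norm_num at h16
    have h1 : (1 : PR) ∈ MulAction.fixedPoints (ConjAct R) PR := fun g => smul_one g
    obtain ⟨b, hb, hb1⟩ := hp.exists_fixed_point_of_prime_dvd_card_of_fixed_point PR hd h1
    refine ⟨((b : R) : G), mem_subgroupOf.1 b.2, fun e => hb1 (Subtype.ext (Subtype.ext e.symm)), fun r hr => ?_⟩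
    have := congrArg (fun w : PR => ((w : R) : G)) (hb (ConjAct.toConjAct (⟨r, hr⟩ : R)))
    simp only [ConjAct.Subgroup.val_conj_smul, ConjAct.toConjAct_smul] at this
    exact mul_inv_eq_iff_eq_mul.1 (by simpa using this)
  have hzP' : z ∈ P' := by
    obtain ⟨j, hj⟩ := exists_pow_two hR (hPR hzP)
    exact L'.cent_le hj fun a ha => (hzR a (hP'R ha)).symm
  have hPPz : ∀ a ∈ P, a ∈ P' → a = 1 ∨ a = z := fun a ha ha' => by
    by_contra hcon
    push Not at hcon
    have hsub : ({1, z, a} : Set G) ⊆ (P ⊓ P' : Subgroup G) := by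
      rintro g (rfl | rfl | rfl)
      · exact one_mem _
      · exact ⟨hzP, hzP'⟩
      · exact ⟨ha, ha'⟩
    have h3 : ({1, z, a} : Set G).ncard = 3 := by
      rw [Set.ncard_insert_of_notMem (by simp [hz1.symm, Ne.symm hcon.1]), Set.ncard_pair (Ne.symm hcon.2)]
    have := h3.ge.trans (Set.ncard_le_ncard hsub)
    rw [← Nat.card_coe_set_eq, SetLike.coe_sort_coe] at this
    omega
  have hzz : z * z = 1 := hsq' z hzP'
  -- the fixed points of the involution on the large part
  have hfix : ∀ a ∈ P, s * a = a * s → a = 1 ∨ a = z := fun a ha hsa => by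
    refine hPPz a ha ?_
    obtain ⟨j, hj⟩ := exists_pow_two hR (hPR ha)
    refine L'.cent_le hj fun b hb => ?_
    have hge : P' ≤ centralizer ({a} : Set G) := by
      refine inf_eq_left.1 (eq_of_le_of_card_ge inf_le_left ?_)
      obtain ⟨c, hc⟩ : Nat.card (P' ⊓ centralizer ({a} : Set G) : Subgroup G) ∣ 4 :=
        h4 ▸ card_dvd_of_le inf_le_left
      have hsub : ({1, z, s} : Set G) ⊆ (P' ⊓ centralizer ({a} : Set G) : Subgroup G) := by
        rintro g (rfl | rfl | rfl)
        · exact one_mem _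
        · exact ⟨hzP', mem_centralizer_singleton_iff.2 (hzR a (hPR ha)).symm⟩
        · exact ⟨hs, mem_centralizer_singleton_iff.2 hsa⟩
      have h3 : ({1, z, s} : Set G).ncard = 3 := by
        rw [Set.ncard_insert_of_notMem (by
          simp [hz1.symm, (show (1 : G) ≠ s from fun e => hsP (e ▸ one_mem _))]),
          Set.ncard_pair (show z ≠ s from fun e => hsP (e ▸ hzP))]
      have := h3.ge.trans (Set.ncard_le_ncard hsub)
      rw [← Nat.card_coe_set_eq, SetLike.coe_sort_coe] at this
      rw [h4]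
      rcases c with _ | _ | c
      · omega
      · omega
      · nlinarith
    exact (mem_centralizer_singleton_iff.1 (hge hb)).symm
  -- the central involutions
  have hzc : z ∈ C := ⟨hzP, mem_centralizer_iff.2 fun a ha => hzR a (hPR ha)⟩
  let W : Subgroup G :=
    { carrier := {a | a ∈ C ∧ a * a = 1}
      one_mem' := ⟨one_mem _, one_mul 1⟩
      mul_mem' := fun {a b} ha hb => ⟨mul_mem ha.1 hb.1, by
        calc a * b * (a * b) = a * (b * a) * b := by group
          _ = a * (a * b) * b := by rw [hCc a ha.1 b hb.1.1]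
          _ = (a * a) * (b * b) := by group
          _ = 1 := by rw [ha.2, hb.2, one_mul]⟩
      inv_mem' := fun {a} ha => ⟨inv_mem ha.1, by rw [← mul_inv_rev, ha.2, inv_one]⟩ }
  have hWP : W ≤ P := fun a ha => ha.1.1
  have hWc : ∀ a ∈ W, ∀ b ∈ P, b * a = a * b := fun a ha b hb => hCc a ha.1 b hb
  have hWI : Inv x W := by
    refine ⟨mem_normalizer_iff.2 fun a => ?_, fun hd => L.inv_part.cop (hd.trans (card_dvd_of_le hWP))⟩
    show (a ∈ C ∧ a * a = 1) ↔ (x * a * x⁻¹ ∈ C ∧ x * a * x⁻¹ * (x * a * x⁻¹) = 1)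
    rw [← mem_normalizer_iff.1 hCI.norm a, show x * a * x⁻¹ * (x * a * x⁻¹) = x * (a * a) * x⁻¹ by group,
      conj_eq_one_iff]
  have hsW : ∀ a ∈ W, s * a * s ∈ W := fun a ha => by
    have hsa : s * a * s⁻¹ ∈ P := conj_mem_of_norm hsPn ha.1.1
    refine ⟨⟨by rwa [hsi] at hsa, mem_centralizer_iff.2 fun b hb => ?_⟩, ?_⟩
    · have := hCc a ha.1 _ (inv_conj_mem_of_norm hsPn hb)
      rw [hsi] at this
      calc b * (s * a * s) = (s * s⁻¹) * b * s * a * s := by group
        _ = s * (s * b * s * a) * s := by rw [hsi]; group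
        _ = s * (a * (s * b * s)) * s := by rw [this]
        _ = s * a * s * b * (s * s) := by group
        _ = s * a * s * b := by rw [hs2, mul_one]
    · calc s * a * s * (s * a * s) = s * (a * (s * s) * a) * s := by group
        _ = 1 := by rw [hs2, mul_one, ha.2, mul_one, hs2]
  have hF : ∀ a ∈ W, a * (s * a * s) = 1 ∨ a * (s * a * s) = z := fun a ha => by
    have hm := hsW a ha
    refine hfix _ (mul_mem (hWP ha) (hWP hm)) ?_
    calc s * (a * (s * a * s)) = (s * a * s) * a * s := by group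
        _ = a * (s * a * s) * s := by rw [hWc _ hm a (hWP ha)]
  have hW4 : Nat.card W ≤ 4 := by
    let φ : W → Bool × Bool := fun a =>
      (decide ((a : G) * (s * a * s) = 1), decide (x * (a : G) * x⁻¹ * (s * (x * (a : G) * x⁻¹) * s) = 1))
    have hφ : Function.Injective φ := by
      rintro ⟨a, ha⟩ ⟨b, hb⟩ e
      simp only [φ, Prod.mk.injEq, decide_eq_decide] at e
      have hcomm : ∀ c ∈ W, ∀ d ∈ W, c * d = d * c := fun c hc d hd => hWc d hd c (hWP hc)
      have key : ∀ c ∈ W, ∀ d ∈ W, (c * (s * c * s) = 1 ↔ d * (s * d * s) = 1) →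
          s * (c * d) * s = c * d := by
        intro c hc d hd hiff
        have hsame : c * (s * c * s) = d * (s * d * s) := by
          rcases hF c hc with e1 | e1 <;> rcases hF d hd with e2 | e2
          · rw [e1, e2]
          · rw [e1, hiff.1 e1]
          · rw [hiff.2 e2, e2]
          · rw [e1, e2]
        calc s * (c * d) * s = (s * c * s) * (s * d * s) := by
              rw [show s * c * s * (s * d * s) = s * c * (s * s) * d * s by group, hs2, mul_one]; group
          _ = (c * c) * (s * c * s) * (s * d * s) := by rw [hc.2, one_mul]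
          _ = c * (c * (s * c * s)) * (s * d * s) := by group
          _ = c * d * ((s * d * s) * (s * d * s)) := by rw [hsame]; group
          _ = c * d := by rw [(hsW d hd).2, mul_one]
      have ha' : x * a * x⁻¹ ∈ W := conj_mem_of_norm hWI.norm ha
      have hb' : x * b * x⁻¹ ∈ W := conj_mem_of_norm hWI.norm hb
      have h1 := key a ha b hb e.1
      have h2 := key _ ha' _ hb' e.2
      set c := a * b with hc
      have hcW : c ∈ W := mul_mem ha hb
      have hc1 : s * c = c * s := by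
        calc s * c = s * c * s * s⁻¹ := by group
          _ = c * s := by rw [h1, hsi]
      have hxc : s * (x * c * x⁻¹) * s = x * c * x⁻¹ := by
        rw [show x * c * x⁻¹ = x * a * x⁻¹ * (x * b * x⁻¹) by rw [hc]; group]
        exact h2
      have hx2 : x⁻¹ * c * x = c * (x * c * x⁻¹) := by
        have hn := hWI.norm_eq_one L.sc hcW
        rw [← inv_eq_of_mul_eq_one_right hn]
        exact inv_eq_of_mul_eq_one_right (mul_mem hcW (conj_mem_of_norm hWI.norm hcW)).2
      have hc3 : s * (x⁻¹ * c * x) * s = x⁻¹ * c * x := by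
        rw [hx2]
        calc s * (c * (x * c * x⁻¹)) * s = (s * c * s) * (s * (x * c * x⁻¹) * s) := by
              rw [show s * c * s * (s * (x * c * x⁻¹) * s) = s * c * (s * s) * (x * c * x⁻¹) * s by group,
                hs2, mul_one]; group
          _ = c * (x * c * x⁻¹) := by rw [h1, hxc]
      have hfin := L.no_common_fixed hsN hs2 hsP (part_le 2 M (hWP hcW)) hc1 (by
        calc x * s * x⁻¹ * c = x * (s * (x⁻¹ * c * x) * s) * s⁻¹ * x⁻¹ := by group
          _ = c * (x * s * x⁻¹) := by rw [hc3, hsi]; group)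
      refine Subtype.ext ?_
      calc a = a * (b * b) := by rw [hb.2, mul_one]
        _ = b := by rw [← mul_assoc, ← hc, hfin, one_mul]
    have := Nat.card_le_card_of_injective φ hφ
    simpa [Nat.card_prod] using this
  have hW4' : Nat.card W = 4 := le_antisymm hW4 (hCcard W hWI hWP fun e => by
    have : z ∈ W := ⟨hzc, hzz⟩
    rw [e, mem_bot] at this
    exact hz1 this)
  -- lift a fixed point of the quotient
  have hlift : ∃ p ∈ P, p ∉ W ∧ p⁻¹ * (s * p * s) ∈ W := by
    set WP := W.subgroupOf P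
    have hP2 : IsPGroup 2 P := part_isPGroup
    let f : P → P := fun a => ⟨s * a * s⁻¹, conj_mem_of_norm hsPn a.2⟩
    let g : P ⧸ WP → P ⧸ WP := Quotient.map' f fun a b hab => by
      rw [QuotientGroup.leftRel_apply, mem_subgroupOf] at hab ⊢
      have := hsW _ hab
      simp only [f, Subgroup.coe_mul, Subgroup.coe_inv, hsi] at this ⊢
      rw [show (s * (a : G) * s)⁻¹ * (s * (b : G) * s) = s⁻¹ * ((a : G)⁻¹ * b) * s by group, hsi]
      exact this
    have hg : ∀ q, g (g q) = q := fun q => by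
      induction q using QuotientGroup.induction_on with
      | H a =>
        refine congrArg QuotientGroup.mk (Subtype.ext ?_)
        show s * (s * (a : G) * s⁻¹) * s⁻¹ = a
        rw [show s * (s * (a : G) * s⁻¹) * s⁻¹ = s * s * a * (s * s)⁻¹ by group, hs2]; group
    let σ : Equiv.Perm (P ⧸ WP) := ⟨g, g, hg, hg⟩
    have hσ : σ * σ = 1 := Equiv.ext hg
    have hp : IsPGroup 2 (zpowers σ) := fun ⟨y, hy⟩ => by
      obtain ⟨i, rfl⟩ := mem_zpowers_iff.1 hy
      refine ⟨1, Subtype.ext ?_⟩
      show (σ ^ i) ^ (2 ^ 1) = 1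
      rw [pow_one, ← zpow_natCast, ← zpow_mul, mul_comm, zpow_mul, zpow_natCast, sq, hσ, one_zpow]
    have hd : 2 ∣ Nat.card (P ⧸ WP) := by
      have h1 := card_eq_card_quotient_mul_card_subgroup WP
      rw [Nat.card_congr (subgroupOfEquivOfLe hWP).toEquiv, hW4'] at h1
      obtain ⟨k, hk⟩ := hP2.exists_card_eq
      obtain ⟨j, rfl⟩ : ∃ j, k = j + 3 := ⟨k - 3, by
        by_contra hcon
        have : 2 ^ k ≤ 2 ^ 2 := Nat.pow_le_pow_right two_pos (by omega)
        omega⟩
      rw [hk, pow_add] at h1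
      exact ⟨2 ^ j, by omega⟩
    have h1 : (QuotientGroup.mk (1 : P) : P ⧸ WP) ∈ MulAction.fixedPoints (zpowers σ) (P ⧸ WP) := by
      intro w
      obtain ⟨i, hi⟩ := mem_zpowers_iff.1 w.2
      show (w : Equiv.Perm (P ⧸ WP)) _ = _
      rw [← hi]
      refine Equiv.Perm.zpow_apply_eq_self_of_apply_eq_self ?_ i
      refine congrArg QuotientGroup.mk (Subtype.ext ?_)
      show s * (1 : G) * s⁻¹ = 1
      rw [mul_one, mul_inv_cancel]
    obtain ⟨q, hq, hq1⟩ := hp.exists_fixed_point_of_prime_dvd_card_of_fixed_point _ hd h1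
    obtain ⟨p, rfl⟩ := QuotientGroup.mk_surjective q
    refine ⟨p, p.2, fun hpW => hq1 (QuotientGroup.eq.2 (by rw [inv_one, one_mul]; exact mem_subgroupOf.2 hpW)), ?_⟩
    have e : (QuotientGroup.mk (f p) : P ⧸ WP) = QuotientGroup.mk p := hq ⟨σ, mem_zpowers σ⟩
    have := QuotientGroup.eq.1 e.symm
    rw [mem_subgroupOf] at this
    simpa [f, hsi] using this
  obtain ⟨p, hp, hpW, hc⟩ := hlift
  set c := p⁻¹ * (s * p * s) with hcdef
  have hsc : s * c * s = c := by
    have h1 : s * c * s = c⁻¹ := by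
      rw [hcdef, mul_inv_rev, mul_inv_rev, mul_inv_rev, inv_inv, hsi]
      calc s * (p⁻¹ * (s * p * s)) * s = s * p⁻¹ * s * p * (s * s) := by group
        _ = s * (p⁻¹ * s) * p := by rw [hs2, mul_one]; group
    rw [h1, inv_eq_of_mul_eq_one_right hc.2]
  have hfix' : ∀ w ∈ P, s * w * s = w → w = 1 ∨ w = z := fun w hw e => hfix w hw (by
    calc s * w = s * w * s * s⁻¹ := by group
      _ = w * s := by rw [e, hsi])
  rcases hfix' c (hWP hc) hsc with e | e
  · have hsp : s * p * s = p := by
      calc s * p * s = p * c := by rw [hcdef, mul_inv_cancel_left]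
        _ = p := by rw [e, mul_one]
    rcases hfix' p hp hsp with e' | e'
    · exact hpW (e' ▸ one_mem _)
    · exact hpW (e' ▸ ⟨hzc, hzz⟩)
  · obtain ⟨a, ha, ha1, haz⟩ : ∃ a ∈ W, a ≠ 1 ∧ a ≠ z := by
      by_contra hcon
      push Not at hcon
      have hsub : (W : Set G) ⊆ {1, z} := fun a ha => by
        by_cases e1 : a = 1
        · exact Or.inl e1
        · exact Or.inr (hcon a ha e1)
      have h := (Set.ncard_le_ncard hsub).trans (by simpa using Set.ncard_insert_le (1 : G) {z} :
        ({1, z} : Set G).ncard ≤ 2)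
      rw [← Nat.card_coe_set_eq, SetLike.coe_sort_coe, hW4'] at h
      omega
    have hsa : s * a * s = a * z := by
      rcases hF a ha with e1 | e1
      · exfalso
        have : s * a * s = a := by
          rw [← inv_eq_of_mul_eq_one_right e1]; exact inv_eq_of_mul_eq_one_right ha.2
        rcases hfix' a (hWP ha) this with e2 | e2
        · exact ha1 e2
        · exact haz e2
      · calc s * a * s = (a * a) * (s * a * s) := by rw [ha.2, one_mul]
          _ = a * z := by rw [mul_assoc, e1]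
    have hspa : s * (p * a) * s = p * a := by
      calc s * (p * a) * s = (s * p * s) * (s * a * s) := by
            rw [show s * p * s * (s * a * s) = s * p * (s * s) * a * s by group, hs2, mul_one]; group
        _ = p * c * (a * z) := by rw [hsa, hcdef, mul_inv_cancel_left]
        _ = p * (z * a) * z := by rw [e]; group
        _ = p * (a * z) * z := by rw [hzR a (hPR (hWP ha))]
        _ = p * a * (z * z) := by group
        _ = p * a := by rw [hzz, mul_one]
    rcases hfix' _ (mul_mem hp (hWP ha)) hspa with e' | e'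
    · exact hpW (eq_inv_of_mul_eq_one_left e' ▸ inv_mem ha)
    · exact hpW (eq_mul_inv_of_mul_eq e' ▸ mul_mem ⟨hzc, hzz⟩ (inv_mem ha))

theorem EvenLoc.two_parts (L : EvenLoc x M) (L' : EvenLoc x' M') (R : Subgroup G) (hR : IsPGroup 2 R)
    (hPR : part 2 M ≤ R) (hP'R : part 2 M' ≤ R) (hne : part 2 M ≠ part 2 M') :
    Nat.card (part 2 M) = 4 ∧ Nat.card (part 2 M') = 4 ∧ 8 ∣ Nat.card R := by
  have : Fact (Nat.Prime 2) := ⟨Nat.prime_two⟩
  have hpar : Nat.card (part 2 M') ≠ 2 * Nat.card (part 2 M) ∧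
      Nat.card (part 2 M) ≠ 2 * Nat.card (part 2 M') := by
    have h1 := L.inv_part.card_mod L.sc
    have h2 := L'.inv_part.card_mod L'.sc
    omega
  have key : Nat.card (part 2 M) = 4 ∧ Nat.card (part 2 M') = 4 := by
    rcases L.card_cases with h | h <;> rcases L'.card_cases with h' | h'
    · exact ⟨h, h'⟩
    · exact (L'.big_four L R hR hP'R hPR h' h).elim
    · exact (L.big_four L' R hR hPR hP'R h h').elim
    exfalso
    rcases L.le_sylow R hR hPR with e | e | ⟨e, eN⟩ <;>
      rcases L'.le_sylow R hR hP'R with e' | e' | ⟨e', eN'⟩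
    · exact hne (e.symm.trans e')
    · omega
    · rw [e] at e'; exact hpar.2 e'
    · omega
    · omega
    · omega
    · rw [e'] at e; exact hpar.1 e
    · omega
    · have := L.pairA L' R hR hPR hP'R eN eN' hne e e'
      omega
  refine ⟨key.1, key.2, ?_⟩
  obtain ⟨k, hk⟩ := hR.exists_card_eq
  rw [hk]
  by_contra h8
  have hk2 : k ≤ 2 := by
    by_contra hlt
    exact h8 (by rw [show (8 : ℕ) = 2 ^ 3 from rfl]; exact pow_dvd_pow 2 (by omega))
  have hcR : Nat.card R ≤ 4 := hk ▸ (Nat.pow_le_pow_right two_pos hk2).trans (by norm_num)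
  exact hne ((eq_of_le_of_card_ge hPR (by rw [key.1]; exact hcR)).trans
    (eq_of_le_of_card_ge hP'R (by rw [key.2]; exact hcR)).symm)

theorem EvenLoc.not_three (y : Fin 3 → G) (N : Fin 3 → Subgroup G) (L : ∀ i, EvenLoc (y i) (N i))
    (R : Subgroup G) (hR : IsPGroup 2 R) (hPR : ∀ i, part 2 (N i) ≤ R)
    (hne : ∀ i j, i ≠ j → ∀ r ∈ R, SelfCentThree.cj r (part 2 (N i)) ≠ part 2 (N j)) : False := by
  have hne' : ∀ i j, i ≠ j → part 2 (N i) ≠ part 2 (N j) := fun i j hij e =>
    hne i j hij 1 (one_mem _) (by rw [cj_one, e])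
  obtain ⟨h0, h1, h8⟩ := (L 0).two_parts (L 1) R hR (hPR 0) (hPR 1) (hne' 0 1 (by decide))
  have hc : ∀ i, Nat.card (part 2 (N i)) = 4 := fun i => by
    by_cases hi : i = 0
    · rw [hi]; exact h0
    · exact ((L 0).two_parts (L i) R hR (hPR 0) (hPR i) (hne' 0 i (Ne.symm hi))).2.1
  refine false_of_three_fours hR h8 (fun i => (part 2 (N i)).subgroupOf R) (fun i => ⟨?_, ?_, ?_⟩) ?_
  · rw [Nat.card_congr (subgroupOfEquivOfLe (hPR i)).toEquiv, hc i]
  · intro a ha
    exact Subtype.ext ((L i).inv_part.sq_of_card_four (L i).sc (hc i) ha)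
  · intro g hg
    obtain ⟨j, hj⟩ := exists_pow_two hR g.2
    exact (L i).cent_le hj fun a ha => congrArg Subtype.val (hg ⟨a, hPR i ha⟩ ha)
  · intro i j hij r e
    refine hne i j hij r r.2 ?_
    ext a
    rw [mem_cj]
    constructor
    · intro ha
      have hm : r * (⟨(r : G)⁻¹ * a * r, hPR i ha⟩ : R) * r⁻¹ ∈
          ((part 2 (N i)).subgroupOf R).map (MulAut.conj r).toMonoidHom := ⟨_, ha, rfl⟩
      rw [e, mem_subgroupOf] at hm
      simpa [mul_assoc] using hm
    · intro ha
      have hm : (⟨a, hPR j ha⟩ : R) ∈ ((part 2 (N i)).subgroupOf R).map (MulAut.conj r).toMonoidHom := by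
        rw [e]; exact ha
      obtain ⟨b, hb, hbe⟩ := hm
      have : (r : G) * b * (r : G)⁻¹ = a := congrArg Subtype.val hbe
      rw [← this]
      simpa [mul_assoc] using mem_subgroupOf.1 hb

end Cfsg.Agent.SelfCentThree
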