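import Cfsg.Agent.SelfCentThree.Chars
import Cfsg.Agent.SelfCentThree.EvenPairs
import Cfsg.Agent.Layer.Subnormal

/-!
# Counting the invariant subgroups of a simple group
-/

set_option autoImplicit false

namespace Cfsg.Agent.SelfCentThree

open Subgroup

universe u

variable {G : Type u} [Group G] [Finite G] {x : G} {M M' : Subgroup G}

omit [Finite G] in
theorem Inv.symm {K : Subgroup G} (hK : Inv x K) : Inv x⁻¹ K := ⟨inv_mem hK.norm, hK.cop⟩

omit [Finite G] in
theorem Max.symm (hM : Max x M) : Max x⁻¹ M :=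
  ⟨hM.inv.symm, fun K hK hle => hM.max K (by simpa using hK.symm) hle⟩

omit [Finite G] in
theorem Max.twist (hM : Max x M) {t : G} (ht : t * x * t⁻¹ = x⁻¹) :
    Max x (SelfCentThree.cj t M) := by
  simpa [ht] using (hM.cj t).symm

omit [Finite G] in
theorem cj_twice {t : G} (ht : t * t = 1) (M : Subgroup G) : cj t (cj t M) = M := by
  rw [cj_cj, ht, cj_one]

/-- Two maximal invariant subgroups with conjugate primary parts are equal up to the inverter. -/
theorem same_orbit (hG : Ctx G) (h : Sc x) (hM : Max x M) (hM' : Max x M') {t : G}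
    (ht2 : t * t = 1) (htx : t * x * t⁻¹ = x⁻¹) (p : ℕ) [Fact p.Prime] (hp : p ∣ Nat.card M)
    (hp' : p ∣ Nat.card M') {g : G} (hg : cj g (part p M) = part p M') :
    M' = M ∨ M' = cj t M := by
  have hnil := hM.inv.nilpotent h
  have hnil' := hM'.inv.nilpotent h
  set M'' := cj g M with hM''
  have hy : Sc (g * x * g⁻¹) := h.conj g
  have hMy : Max (g * x * g⁻¹) M'' := hM.cj g
  have hpy : p ∣ Nat.card M'' := by rwa [hM'', card_cj]
  obtain ⟨hN', hc'⟩ := local_structure hG h hM' p hp'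
  obtain ⟨hN'', hc''⟩ := local_structure hG hy hMy p hpy
  have hpart : part p M'' = part p M' := by rw [hM'', part_cj g hnil, hg]
  rw [hpart, hN'] at hN''
  -- the two subgroups are normal in the same group
  set H := normalizer (M' : Set G) with hH
  have hM'H : M' ≤ H := le_normalizer
  have hxH : x ∈ H := hM'.inv.norm
  have hyH : g * x * g⁻¹ ∈ H := by rw [hN'']; exact hMy.inv.norm
  have hM''H : M'' ≤ H := hN''.symm ▸ le_normalizer
  have hsup : ¬ 3 ∣ Nat.card (M'' ⊔ M' : Subgroup G) := by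
    intro hd
    have hd' : Nat.card (M'' ⊔ M' : Subgroup G) ∣ Nat.card M'' * Nat.card M' :=
      Layer.card_sup_dvd_of_le_normalizer hM''H
    exact (Nat.prime_three.dvd_mul.1 (hd.trans hd')).elim hMy.inv.cop hM'.inv.cop
  have hnorm : ∀ a ∈ H, a ∈ normalizer ((M'' ⊔ M' : Subgroup G) : Set G) := by
    intro a ha
    rw [← cj_eq_iff]
    rw [show cj a (M'' ⊔ M') = cj a M'' ⊔ cj a M' from Subgroup.map_sup _ _ _,
      cj_eq_iff.2 ha, cj_eq_iff.2 (hN'' ▸ ha)]
  have e1 : M'' ⊔ M' = M' := hM'.max _ ⟨hnorm x hxH, hsup⟩ le_sup_right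
  have e2 : M'' ⊔ M' = M'' := hMy.max _ ⟨hnorm _ hyH, hsup⟩ le_sup_left
  have heq : M'' = M' := e2.symm.trans e1
  -- adjust the conjugating element
  obtain ⟨⟨k, hk⟩, hkx⟩ := (h.subgroup hxH).cover (g := (⟨g * x * g⁻¹, hyH⟩ : H))
    (Subtype.ext (hy.cube)) (fun e => hy.ne (congrArg Subtype.val e))
  have hkM : cj k M' = M' := cj_eq_iff.2 hk
  have hu : cj (k * g) M = M' := by rw [← cj_cj, ← hM'', heq, hkM]
  rcases hkx with e | e
  · have e' : k * (g * x * g⁻¹) * k⁻¹ = x := congrArg Subtype.val e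
    have hc : (k * g) * x = x * (k * g) := by
      calc (k * g) * x = k * (g * x * g⁻¹) * k⁻¹ * (k * g) := by group
        _ = x * (k * g) := by rw [e']
    left
    rw [← hu, cj_eq_iff.2 (zpowers_le.2 hM.inv.norm (h.mem_zpowers_of_commute hc))]
  · have e' : k * (g * x * g⁻¹) * k⁻¹ = x⁻¹ := congrArg Subtype.val e
    have hc : (t * (k * g)) * x = x * (t * (k * g)) := by
      calc (t * (k * g)) * x = t * (k * (g * x * g⁻¹) * k⁻¹) * t⁻¹ * (t * (k * g)) := by group
        _ = (t * x * t⁻¹)⁻¹ * (t * (k * g)) := by rw [e']; group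
        _ = x * (t * (k * g)) := by rw [htx, inv_inv]
    right
    have := cj_eq_iff.2 (zpowers_le.2 hM.inv.norm (h.mem_zpowers_of_commute hc))
    rw [← cj_cj, hu] at this
    rw [← this, cj_twice ht2]

/-- An odd part is a Sylow subgroup. -/
theorem factorization_part_eq (hG : Ctx G) (h : Sc x) (hM : Max x M) (p : ℕ) [Fact p.Prime]
    (hp : p ∣ Nat.card M) (hp2 : p ≠ 2) :
    (Nat.card M).factorization p = (Nat.card G).factorization p := by
  have hpp : p.Prime := Fact.out
  refine le_antisymm ((Nat.factorization_le_iff_dvd Nat.card_pos.ne' Nat.card_pos.ne').2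
    (card_subgroup_dvd_card M) p) (not_lt.1 fun hlt => ?_)
  have hp3 : p ≠ 3 := fun e => hM.inv.cop (e ▸ hp)
  obtain ⟨hN, hc⟩ := local_structure hG h hM p hp
  have hd : p ^ ((Nat.card M).factorization p + 1) ∣ Nat.card G :=
    (hpp.pow_dvd_iff_le_factorization Nat.card_pos.ne').2 hlt
  have h1 := Sylow.prime_pow_dvd_card_normalizer hd (card_part p M)
  rw [hN] at h1
  have h2 : p ^ ((Nat.card M).factorization p + 1) ∣ 6 * Nat.card M := by
    rcases hc with e | e <;> rw [e] at h1
    · exact h1.trans (Nat.mul_dvd_mul_right (by norm_num) _)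
    · exact h1
  have hcop : Nat.Coprime (p ^ ((Nat.card M).factorization p + 1)) 6 := by
    refine Nat.Coprime.pow_left _ (hpp.coprime_iff_not_dvd.2 fun h6 => ?_)
    rcases hpp.dvd_mul.1 (show p ∣ 2 * 3 from h6) with e | e
    · exact hp2 ((Nat.prime_dvd_prime_iff_eq hpp Nat.prime_two).1 e)
    · exact hp3 ((Nat.prime_dvd_prime_iff_eq hpp Nat.prime_three).1 e)
  exact Nat.pow_succ_factorization_not_dvd Nat.card_pos.ne' hpp (hcop.dvd_of_dvd_mul_left h2)

/-- Odd primes belong to at most one class. -/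
theorem same_orbit_odd (hG : Ctx G) (h : Sc x) (hM : Max x M) (hM' : Max x M') {t : G}
    (ht2 : t * t = 1) (htx : t * x * t⁻¹ = x⁻¹) (p : ℕ) [Fact p.Prime] (hp : p ∣ Nat.card M)
    (hp' : p ∣ Nat.card M') (hp2 : p ≠ 2) : M' = M ∨ M' = cj t M := by
  let P : Sylow p G := Sylow.ofCard (part p M)
    (by rw [card_part, factorization_part_eq hG h hM p hp hp2])
  let P' : Sylow p G := Sylow.ofCard (part p M')
    (by rw [card_part, factorization_part_eq hG h hM' p hp' hp2])
  obtain ⟨g, hg⟩ := MulAction.exists_smul_eq G P P'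
  exact same_orbit hG h hM hM' ht2 htx p hp hp' (g := g) (congrArg (fun S : Sylow p G => (S : Subgroup G)) hg)

/-- Moving even parts into one two-group. -/
theorem exists_common (M : Subgroup G) (R : Sylow 2 G) : ∃ g : G, cj g (part 2 M) ≤ (R : Subgroup G) := by
  have : Fact (Nat.Prime 2) := ⟨Nat.prime_two⟩
  obtain ⟨S, hS⟩ := (part_isPGroup (p := 2) (M := M)).exists_le_sylow
  obtain ⟨g, hg⟩ := MulAction.exists_smul_eq G S R
  refine ⟨g, ?_⟩
  rw [← hg]
  exact cj_mono hS

/-- Representatives for the maximal invariant subgroups. -/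
theorem exists_reps (hG : Ctx G) (h : Sc x) :
    ∃ R : Finset (Subgroup G),
      Nat.card G ≤ 9 * (1 + ∑ M ∈ R, 2 * (Nat.card M - 1)) ∧
      (∀ M ∈ R, 4 ≤ Nat.card M ∧ 3 * Nat.card M ^ 2 ≤ 4 * Nat.card G ∧ ¬ 3 ∣ Nat.card M ∧
        ∀ p : ℕ, p.Prime → p ∣ Nat.card M → p ^ (Nat.card M).factorization p % 3 = 1) ∧
      3 * ∏ M ∈ R, Nat.card M ∣ 2 * Nat.card G := by
  classical
  have := hG.simple
  have := Fintype.ofFinite G
  obtain ⟨t, ht2, -, htx⟩ := h.exists_inverter hG.na
  let 𝓜 : Finset (Subgroup G) :=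
    (Set.toFinite {M : Subgroup G | Max x M ∧ M ≠ ⊥}).toFinset
  have hmem : ∀ M, M ∈ 𝓜 ↔ Max x M ∧ M ≠ ⊥ := fun M => by simp [𝓜]
  let good : Finset (Subgroup G) → Prop := fun S => ∀ M ∈ S, ∀ M' ∈ S, M' = cj t M → M' = M
  obtain ⟨R, hR, hRmax⟩ := (𝓜.powerset.filter good).exists_max_image (fun S => S.card)
    ⟨∅, Finset.mem_filter.2 ⟨Finset.empty_mem_powerset _, fun M hM => absurd hM (Finset.notMem_empty M)⟩⟩
  obtain ⟨hRsub, hRgood⟩ := Finset.mem_filter.1 hR
  rw [Finset.mem_powerset] at hRsub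
  have hRM : ∀ M ∈ R, Max x M ∧ M ≠ ⊥ := fun M hM => (hmem M).1 (hRsub hM)
  have hcov : ∀ M ∈ 𝓜, M ∈ R ∨ cj t M ∈ R := by
    intro M hM
    by_contra hcon
    push Not at hcon
    have hins : insert M R ∈ 𝓜.powerset.filter good := by
      refine Finset.mem_filter.2 ⟨Finset.mem_powerset.2 (Finset.insert_subset hM hRsub), ?_⟩
      intro A hA B hB e
      rcases Finset.mem_insert.1 hA with rfl | hA' <;> rcases Finset.mem_insert.1 hB with rfl | hB'
      · rfl
      · exact absurd (e ▸ hB') hcon.2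
      · refine absurd ?_ hcon.2
        rw [e, cj_twice ht2]
        exact hA'
      · exact hRgood A hA' B hB' e
    have := hRmax _ hins
    rw [Finset.card_insert_of_notMem hcon.1] at this
    omega
  have horb : ∀ A ∈ R, ∀ B ∈ R, (B = A ∨ B = cj t A) → B = A := fun A hA B hB e =>
    e.elim id (hRgood A hA B hB)
  refine ⟨R, ?_, fun M hM => ?_, ?_⟩
  · -- the count
    have hS := card_le_nine_mul h hG.na
    refine hS.trans (Nat.mul_le_mul_left 9 ?_)
    let U : Finset G := R.biUnion fun M =>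
      (Set.toFinite (M : Set G)).toFinset.erase 1 ∪ (Set.toFinite ((cj t M : Subgroup G) : Set G)).toFinset.erase 1
    refine le_trans (Finset.card_le_card (t := insert 1 U) fun a ha => ?_) ?_
    · obtain ⟨-, h1, h2, h3, h4⟩ := Finset.mem_filter.1 ha
      refine Finset.mem_insert.2 ?_
      by_cases ha1 : a = 1
      · exact Or.inl ha1
      have haz : a ∉ zpowers x := fun hz => by
        rcases h.eq_cases hz with e | e | e
        · exact ha1 e
        · exact h4 (by rw [e, mul_inv_cancel])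
        · exact h2 (by rw [e, ← h.inv_eq, inv_mul_cancel])
      obtain ⟨K, hK, haK⟩ := exists_inv_of_cubes h haz h1 h3
      obtain ⟨M, hM, hKM⟩ := exists_max hK
      have hMm : M ∈ 𝓜 := (hmem M).2 ⟨hM, fun e => ha1 (mem_bot.1 (e ▸ hKM haK))⟩
      refine Or.inr (Finset.mem_biUnion.2 ?_)
      rcases hcov M hMm with hR' | hR'
      · exact ⟨M, hR', Finset.mem_union_left _ (Finset.mem_erase.2 ⟨ha1, (Set.Finite.mem_toFinset _).2 (hKM haK)⟩)⟩
      · refine ⟨_, hR', Finset.mem_union_right _ (Finset.mem_erase.2 ⟨ha1, (Set.Finite.mem_toFinset _).2 ?_⟩)⟩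
        rw [cj_twice ht2]
        exact hKM haK
    · refine (Finset.card_insert_le _ _).trans ?_
      rw [add_comm]
      refine Nat.add_le_add_left (Finset.card_biUnion_le.trans (Finset.sum_le_sum fun M _ => ?_)) 1
      refine (Finset.card_union_le _ _).trans (le_of_eq ?_)
      rw [Finset.card_erase_of_mem ((Set.Finite.mem_toFinset _).2 (one_mem M)),
        Finset.card_erase_of_mem ((Set.Finite.mem_toFinset _).2 (one_mem (cj t M))),
        ← Set.ncard_eq_toFinset_card, ← Set.ncard_eq_toFinset_card, ← Nat.card_coe_set_eq,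
        ← Nat.card_coe_set_eq, SetLike.coe_sort_coe, SetLike.coe_sort_coe, card_cj, two_mul]
  · -- the orders
    obtain ⟨hMx, hMne⟩ := hRM M hM
    have hnil := hMx.inv.nilpotent h
    have hmod := hMx.inv.card_mod h
    have hne1 : Nat.card M ≠ 1 := fun e => hMne (card_eq_one.1 e)
    refine ⟨by omega, ?_, hMx.inv.cop, fun p hp hpd => ?_⟩
    · have : Nontrivial M := (Subgroup.nontrivial_iff_ne_bot M).2 hMne
      have : Group.IsNilpotent M := hnil
      have : Nontrivial (center M) := (Subgroup.nontrivial_iff_ne_bot _).2 (Group.IsNilpotent.center_ne_bot _)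
      obtain ⟨z, hz1⟩ := exists_ne (1 : center M)
      have hz : ((z : M) : G) ≠ 1 := fun e => hz1 (Subtype.ext (Subtype.ext e))
      have hz3 : ((z : M) : G) ^ 3 ≠ 1 := fun e => by
        have := orderOf_eq_prime e hz
        exact hMx.inv.not_three_dvd_orderOf (z : M).2 (this.symm ▸ dvd_rfl)
      refine le_trans (Nat.mul_le_mul_left 3 (Nat.pow_le_pow_left ?_ 2)) (centralizer_bound h hG.na hz3)
      refine card_le_of_le fun a ha => mem_centralizer_singleton_iff.2 ?_
      exact congrArg Subtype.val (mem_center_iff.1 z.2 ⟨a, ha⟩)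
    · have : Fact p.Prime := ⟨hp⟩
      have hI : Inv x (part p M) := ⟨normalizer_le_normalizer_part hnil hMx.inv.norm,
        fun hd => hMx.inv.cop (hd.trans (card_dvd_of_le (part_le p M)))⟩
      rw [← card_part p M]
      exact hI.card_mod h
  · -- the product
    have hg3 := h.three_dvd
    have hcop : Nat.Coprime 3 (∏ M ∈ R, Nat.card M) :=
      Nat.Coprime.prod_right fun M hM => Nat.prime_three.coprime_iff_not_dvd.2 (hRM M hM).1.inv.cop
    refine hcop.mul_dvd_of_dvd_of_dvd (hg3.trans (dvd_mul_left _ 2)) ?_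
    have hpos : ∀ M ∈ R, Nat.card M ≠ 0 := fun M _ => Nat.card_pos.ne'
    rw [← Nat.factorization_le_iff_dvd (Finset.prod_ne_zero_iff.2 hpos) (Nat.mul_ne_zero (by norm_num) Nat.card_pos.ne')]
    intro p
    rw [Nat.factorization_prod_apply hpos, Nat.factorization_mul (by norm_num) Nat.card_pos.ne',
      Finsupp.add_apply]
    by_cases hp : p.Prime
    swap
    · rw [Finset.sum_eq_zero fun M _ => Nat.factorization_eq_zero_of_not_prime _ hp]
      exact Nat.zero_le _
    have : Fact p.Prime := ⟨hp⟩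
    rw [← Finset.sum_filter_of_ne (p := fun M : Subgroup G => p ∣ Nat.card M) fun M _ hne =>
      Nat.dvd_of_factorization_pos hne]
    set Sp := R.filter fun M : Subgroup G => p ∣ Nat.card M
    have hSp : ∀ A ∈ Sp, A ∈ R ∧ p ∣ Nat.card A := fun A hA => Finset.mem_filter.1 hA
    have hle : ∀ A : Subgroup G, (Nat.card A).factorization p ≤ (Nat.card G).factorization p := fun A =>
      (Nat.factorization_le_iff_dvd Nat.card_pos.ne' Nat.card_pos.ne').2 (card_subgroup_dvd_card A) p
    rcases Nat.lt_or_ge Sp.card 2 with h2 | h2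
    · rcases Finset.eq_empty_or_nonempty Sp with e | ⟨A, hA⟩
      · rw [e, Finset.sum_empty]; exact Nat.zero_le _
      · rw [Finset.eq_singleton_iff_unique_mem.2 ⟨hA, fun B hB => Finset.card_le_one.1 (by omega) B hB A hA⟩,
          Finset.sum_singleton]
        exact (hle A).trans (Nat.le_add_left _ _)
    obtain ⟨A, hA, B, hB, hAB⟩ := Finset.one_lt_card.1 h2
    have hp2 : p = 2 := by
      by_contra hne
      exact hAB (horb A (hSp A hA).1 B (hSp B hB).1
        (same_orbit_odd hG h (hRM A (hSp A hA).1).1 (hRM B (hSp B hB).1).1 ht2 htx p (hSp A hA).2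
          (hSp B hB).2 hne)).symm
    subst hp2
    obtain ⟨R2⟩ := (inferInstance : Nonempty (Sylow 2 G))
    have hL : ∀ C ∈ Sp, EvenLoc x C := fun C hC =>
      EvenLoc.of_ctx hG h (hRM C (hSp C hC).1).1 (hSp C hC).2
    choose g hg using fun C : Subgroup G => exists_common C R2
    have hne : ∀ C ∈ Sp, ∀ D ∈ Sp, C ≠ D → ∀ r : G,
        cj r (cj (g C) (part 2 C)) ≠ cj (g D) (part 2 D) := by
      intro C hC D hD hCD r e
      refine hCD (horb C (hSp C hC).1 D (hSp D hD).1 (same_orbit hG h (hRM C (hSp C hC).1).1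
        (hRM D (hSp D hD).1).1 ht2 htx 2 (hSp C hC).2 (hSp D hD).2 (g := (g D)⁻¹ * r * g C) ?_)).symm
      rw [← cj_cj, ← cj_cj, e, cj_cj, inv_mul_cancel, cj_one]
    have hpc : ∀ C ∈ Sp, part 2 (cj (g C) C) = cj (g C) (part 2 C) := fun C hC => part_cj _ (hL C hC).nil
    have h3 : Sp.card = 2 := by
      refine le_antisymm (not_lt.1 fun hlt => ?_) h2
      obtain ⟨a, b, c, ha, hb, hc, hab, hac, hbc⟩ := Finset.two_lt_card_iff.1 hlt
      let F : Fin 3 → Subgroup G := ![a, b, c]
      have hF : ∀ i, F i ∈ Sp := fun i => by fin_cases i <;> simp [F, ha, hb, hc]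
      have hFi : Function.Injective F := fun i j e => by
        fin_cases i <;> fin_cases j <;> simp_all [F, hab.symm, hac.symm, hbc.symm]
      refine EvenLoc.not_three (fun i => g (F i) * x * (g (F i))⁻¹) (fun i => cj (g (F i)) (F i))
        (fun i => (hL _ (hF i)).cj _) (R2 : Subgroup G) R2.2 (fun i => ?_) fun i j hij r _ e => ?_
      · rw [hpc _ (hF i)]; exact hg _
      · rw [hpc _ (hF i), hpc _ (hF j)] at e
        exact hne _ (hF i) _ (hF j) (fun e' => hij (hFi e')) r e
    obtain ⟨hcA, hcB, h8⟩ := ((hL A hA).cj (g A)).two_parts ((hL B hB).cj (g B)) (R2 : Subgroup G) R2.2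
      (by rw [hpc A hA]; exact hg A) (by rw [hpc B hB]; exact hg B)
      (by rw [hpc A hA, hpc B hB]; simpa [cj_one] using hne A hA B hB hAB 1)
    have hv : ∀ C ∈ Sp, Nat.card (part 2 (cj (g C) C)) = 4 → (Nat.card C).factorization 2 = 2 := by
      intro C hC e
      rw [hpc C hC, card_cj, card_part] at e
      exact Nat.pow_right_injective le_rfl (e.trans (by norm_num : (4 : ℕ) = 2 ^ 2))
    have hSeq : Sp = {A, B} := (Finset.eq_of_subset_of_card_le
      (by intro C hC; rcases Finset.mem_insert.1 hC with rfl | hC'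
          · exact hA
          · rw [Finset.mem_singleton.1 hC']; exact hB)
      (by rw [h3, Finset.card_pair hAB])).symm
    rw [hSeq, Finset.sum_pair hAB, hv A hA hcA, hv B hB hcB, Nat.prime_two.factorization_self]
    have h8' : 2 ^ 3 ∣ Nat.card G := (show (2 : ℕ) ^ 3 = 8 from rfl) ▸ h8.trans (card_subgroup_dvd_card _)
    have := (Nat.prime_two.pow_dvd_iff_le_factorization Nat.card_pos.ne').1 h8'
    omega

end Cfsg.Agent.SelfCentThree
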