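import Mathlib.GroupTheory.Abelianization.Defs
import Mathlib.GroupTheory.PGroup
import Mathlib.GroupTheory.Sylow
import Mathlib.GroupTheory.Nilpotent
import Mathlib.GroupTheory.SpecificGroups.Cyclic

/-!
# At most two classes of self-centralising four-groups in a two-group
-/

set_option autoImplicit false

namespace Cfsg.Agent.SelfCentThree

open Subgroup
open scoped commutatorElement

universe u

variable {R : Type u} [Group R] [Finite R]

/-- A noncommutative two-group has commutator subgroup of index at least four. -/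
theorem four_le_index_commutator (hR : IsPGroup 2 R) (hna : ¬ IsMulCommutative R) :
    4 ≤ (commutator R).index := by
  have : Fact (Nat.Prime 2) := ⟨Nat.prime_two⟩
  have hnil := hR.isNilpotent
  obtain ⟨k, hk⟩ := hR.index (commutator R)
  rcases Nat.lt_or_ge k 2 with hk2 | hk2
  · exfalso
    refine hna ?_
    have hcyc : IsCyclic R := by
      by_cases htop : ∃ g : R, zpowers g = ⊤
      · obtain ⟨g, hg⟩ := htop
        exact isCyclic_iff_exists_zpowers_eq_top.2 ⟨g, hg⟩
      push Not at htop
      exfalso
      -- every maximal subgroup is the commutator subgroup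
      have key : ∀ M : Subgroup R, IsCoatom M → M = commutator R := fun M hM => by
        have hn : M.Normal := NormalizerCondition.normal_of_coatom M (Group.normalizerCondition_of_isNilpotent) hM
        obtain ⟨j, hj⟩ := hR.index M
        have hj1 : j ≠ 0 := fun e => hM.1 (by rw [← index_eq_one, hj, e, pow_zero])
        have hle : commutator R ≤ M := by
          have hQ : IsPGroup 2 (R ⧸ M) := hR.to_quotient M
          have : Nontrivial (R ⧸ M) := by
            rw [← Finite.one_lt_card_iff_nontrivial, ← index_eq_card, hj]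
            exact Nat.one_lt_pow hj1 one_lt_two
          have hc := hQ.center_nontrivial
          have hcen : center (R ⧸ M) = ⊤ := by
            have h1 : ((center (R ⧸ M)).comap (QuotientGroup.mk' M)) = ⊤ := by
              refine hM.2 _ (lt_of_le_of_ne (fun m hm => ?_) fun e => ?_)
              · rw [mem_comap, QuotientGroup.mk'_apply, (QuotientGroup.eq_one_iff m).2 hm]
                exact one_mem _
              · obtain ⟨⟨q, hq⟩, hq1⟩ := exists_ne (1 : center (R ⧸ M))
                obtain ⟨g, rfl⟩ := QuotientGroup.mk'_surjective M q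
                have : g ∈ M := e ▸ (mem_comap.2 hq)
                exact hq1 (Subtype.ext ((QuotientGroup.eq_one_iff g).2 this))
            rw [← map_comap_eq_self_of_surjective (QuotientGroup.mk'_surjective M) (center (R ⧸ M)), h1,
              map_top_of_surjective _ (QuotientGroup.mk'_surjective M)]
          rw [_root_.commutator_def, commutator_le]
          intro a _ b _
          rw [← QuotientGroup.eq_one_iff, ← QuotientGroup.mk'_apply, map_commutatorElement,
            commutatorElement_eq_one_iff_mul_comm]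
          exact (mem_center_iff.1 (hcen ▸ mem_top (QuotientGroup.mk' M b)) _)
        refine (eq_of_le_of_card_ge hle ?_).symm
        have h1 := (commutator R).card_mul_index
        have h2 := M.card_mul_index
        have h3 : 2 ^ k ≤ 2 ^ j := Nat.pow_le_pow_right two_pos (by omega)
        rw [hk] at h1
        rw [hj] at h2
        by_contra hlt
        have : Nat.card (commutator R) * 2 ^ k < Nat.card M * 2 ^ j :=
          Nat.mul_lt_mul_of_lt_of_le (not_le.1 hlt) h3 (Nat.two_pow_pos j)
        omega
      have hne : commutator R ≠ ⊤ := fun e => by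
        have : Nontrivial R := by
          by_contra h
          rw [not_nontrivial_iff_subsingleton] at h
          exact htop 1 (Subsingleton.elim _ _)
        have hs : Group.IsSolvable R := inferInstance
        exact (Group.IsSolvable.commutator_lt_top_of_nontrivial R).ne e
      obtain ⟨g, hg⟩ : ∃ g : R, g ∉ commutator R := by
        by_contra hcon
        push Not at hcon
        exact hne (eq_top_iff.2 fun y _ => hcon y)
      rcases eq_top_or_exists_le_coatom (zpowers g) with e | ⟨M, hM, hle⟩
      · exact htop g e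
      · exact hg (key M hM ▸ hle (mem_zpowers g))
    obtain ⟨g, hg⟩ := hcyc.exists_generator
    refine ⟨⟨fun a b => ?_⟩⟩
    obtain ⟨i, rfl⟩ := mem_zpowers_iff.1 (hg a)
    obtain ⟨j, rfl⟩ := mem_zpowers_iff.1 (hg b)
    exact ((Commute.refl g).zpow_zpow i j).eq
  · rw [hk]
    calc 4 = 2 ^ 2 := rfl
      _ ≤ 2 ^ k := Nat.pow_le_pow_right two_pos hk2

/-- A self-centralising elementary subgroup of order four. -/
structure Four (P : Subgroup R) : Prop where
  card : Nat.card P = 4
  sq : ∀ a ∈ P, a * a = 1
  cent : ∀ g : R, (∀ a ∈ P, g * a = a * g) → g ∈ P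

theorem false_of_three_fours (hR : IsPGroup 2 R) (h8 : 8 ∣ Nat.card R) (P : Fin 3 → Subgroup R)
    (hP : ∀ i, Four (P i)) (hne : ∀ i j, i ≠ j → ∀ g : R, (P i).map (MulAut.conj g).toMonoidHom ≠ P j) :
    False := by
  classical
  have : Fact (Nat.Prime 2) := ⟨Nat.prime_two⟩
  have : Fintype R := Fintype.ofFinite R
  have h8' : 8 ≤ Nat.card R := Nat.le_of_dvd Nat.card_pos h8
  have hna : ¬ IsMulCommutative R := fun hc => by
    have : P 0 = ⊤ := eq_top_iff.2 fun g _ => (hP 0).cent g fun a _ => hc.is_comm.comm g a
    have h4 := (hP 0).card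
    rw [this, card_top] at h4
    omega
  have : Nontrivial R := by
    rw [← Finite.one_lt_card_iff_nontrivial]
    omega
  have hcn := hR.center_nontrivial
  obtain ⟨⟨z, hz⟩, hz1⟩ := exists_ne (1 : center R)
  have hz1' : z ≠ 1 := fun e => hz1 (Subtype.ext e)
  have hzc : ∀ g : R, g * z = z * g := mem_center_iff.1 hz
  have hzP : ∀ i, z ∈ P i := fun i => (hP i).cent z fun a _ => (hzc a).symm
  have hpick : ∀ i, ∃ a ∈ P i, a ≠ 1 ∧ a ≠ z := fun i => by
    by_contra hcon
    push Not at hcon
    have hsub : (P i : Set R) ⊆ {1, z} := fun a ha => by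
      by_cases e : a = 1
      · exact Or.inl e
      · exact Or.inr (hcon a ha e)
    have h := Set.ncard_le_ncard hsub
    have h2 : ({1, z} : Set R).ncard ≤ 2 := by
      simpa using Set.ncard_insert_le (1 : R) {z}
    rw [← Nat.card_coe_set_eq, SetLike.coe_sort_coe, (hP i).card] at h
    omega
  choose a ha ha1 haz using hpick
  -- membership in the four-group generated by the two elements
  have hfour : ∀ (i : Fin 3) (Q : Subgroup R), z ∈ Q → a i ∈ Q → P i ≤ Q := fun i Q hzQ haQ => by
    have hd := card_subgroup_dvd_card ((P i ⊓ Q).subgroupOf (P i))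
    rw [(hP i).card, Nat.card_congr (subgroupOfEquivOfLe inf_le_left).toEquiv] at hd
    have hge : 3 ≤ Nat.card (P i ⊓ Q : Subgroup R) := by
      have hsub : ({1, z, a i} : Set R) ⊆ (P i ⊓ Q : Subgroup R) := by
        rintro g (rfl | rfl | rfl)
        · exact one_mem _
        · exact ⟨hzP i, hzQ⟩
        · exact ⟨ha i, haQ⟩
      have h3 : ({1, z, a i} : Set R).ncard = 3 := by
        rw [Set.ncard_insert_of_notMem (by simp [hz1'.symm, (ha1 i).symm]),
          Set.ncard_pair (haz i).symm]
      refine h3.ge.trans ?_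
      rw [← SetLike.coe_sort_coe, Nat.card_coe_set_eq]
      exact Set.ncard_le_ncard hsub
    have h4 : Nat.card (P i ⊓ Q : Subgroup R) = 4 := by
      have := Nat.le_of_dvd (by norm_num) hd
      generalize Nat.card (P i ⊓ Q : Subgroup R) = d at hd hge this
      interval_cases d <;> omega
    exact inf_eq_left.1 (eq_of_le_of_card_ge inf_le_left (by rw [h4, (hP i).card]))
  have hC : ∀ i, centralizer ({a i} : Set R) = P i := fun i => by
    refine le_antisymm (fun g hg => ?_) fun g hg => mem_centralizer_singleton_iff.2 ?_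
    · rw [mem_centralizer_singleton_iff] at hg
      refine (hP i).cent g fun b hb => ?_
      have := hfour i (centralizer {g}) (mem_centralizer_singleton_iff.2 (hzc g).symm)
        (mem_centralizer_singleton_iff.2 hg.symm) hb
      exact (mem_centralizer_singleton_iff.1 this).symm
    · have hga := mul_mem hg (ha i)
      calc g * a i = (g * a i)⁻¹ := eq_inv_of_mul_eq_one_left ((hP i).sq _ hga)
        _ = (a i)⁻¹ * g⁻¹ := mul_inv_rev _ _
        _ = a i * g := by
          rw [← eq_inv_of_mul_eq_one_left ((hP i).sq _ (ha i)), ← eq_inv_of_mul_eq_one_left ((hP i).sq _ hg)]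
  set D := commutator R
  have hD : 4 ≤ D.index := four_le_index_commutator hR hna
  have hcls : ∀ i, ∀ b : R, IsConj (a i) b → (QuotientGroup.mk' D b) = QuotientGroup.mk' D (a i) := by
    intro i b hb
    obtain ⟨k, rfl⟩ := isConj_iff.1 hb
    rw [QuotientGroup.mk'_apply, QuotientGroup.mk'_apply, QuotientGroup.eq]
    rw [show (k * a i * k⁻¹)⁻¹ * a i = ⁅k, (a i)⁻¹⁆ by rw [commutatorElement_def]; group]
    exact commutator_mem_commutator (mem_top _) (mem_top _)
  have hsize : ∀ i, Nat.card {b : R // IsConj (a i) b} = (P i).index := fun i => by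
    rw [← hC i, index_eq_card]
    refine Nat.card_congr ?_
    refine (Equiv.ofBijective (fun q : R ⧸ centralizer ({a i} : Set R) => (⟨Quotient.liftOn' q
      (fun g => g * a i * g⁻¹) fun g g' h => ?_, ?_⟩ : {b : R // IsConj (a i) b})) ⟨?_, ?_⟩).symm
    · rw [QuotientGroup.leftRel_apply, mem_centralizer_singleton_iff] at h
      calc g * a i * g⁻¹ = g * (a i * (g⁻¹ * g')) * g'⁻¹ := by group
        _ = g * (g⁻¹ * g' * a i) * g'⁻¹ := by rw [h]
        _ = g' * a i * g'⁻¹ := by group
    · induction q using QuotientGroup.induction_on with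
      | H g => exact isConj_iff.2 ⟨g, rfl⟩
    · intro q q' e
      induction q using QuotientGroup.induction_on with
      | H g =>
      induction q' using QuotientGroup.induction_on with
      | H g' =>
        have e' : g * a i * g⁻¹ = g' * a i * g'⁻¹ := congrArg Subtype.val e
        rw [QuotientGroup.eq, mem_centralizer_singleton_iff]
        calc g⁻¹ * g' * a i = g⁻¹ * (g' * a i * g'⁻¹) * g' := by group
          _ = g⁻¹ * (g * a i * g⁻¹) * g' := by rw [e']
          _ = a i * (g⁻¹ * g') := by group
    · rintro ⟨b, hb⟩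
      obtain ⟨k, rfl⟩ := isConj_iff.1 hb
      exact ⟨QuotientGroup.mk k, rfl⟩
  have hfib : ∀ q : R ⧸ D, Nat.card {b : R // QuotientGroup.mk' D b = q} = Nat.card D := fun q => by
    obtain ⟨g, rfl⟩ := QuotientGroup.mk'_surjective D q
    refine Nat.card_congr ⟨fun b => ⟨g⁻¹ * b.1, ?_⟩, fun d => ⟨g * d.1, ?_⟩, fun b => ?_, fun d => ?_⟩
    · exact QuotientGroup.eq.1 b.2.symm
    · exact (QuotientGroup.eq.2 (by simp)).symm
    · ext; simp
    · ext; simp
  have hle : ∀ i, (P i).index ≤ Nat.card D := fun i => by
    rw [← hsize i, ← hfib (QuotientGroup.mk' D (a i))]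
    exact Nat.card_le_card_of_injective (fun b => ⟨b.1, hcls i b.1 b.2⟩)
      fun b c e => Subtype.ext (congrArg (fun w => w.1) e)
  have hidx : ∀ i, (P i).index = Nat.card D := fun i => by
    refine le_antisymm (hle i) ?_
    have h1 := (P i).card_mul_index
    have h2 := D.card_mul_index
    rw [(hP i).card] at h1
    have : 4 * Nat.card D ≤ D.index * Nat.card D := Nat.mul_le_mul_right _ hD
    rw [mul_comm D.index] at this
    omega
  have hfull : ∀ i b, QuotientGroup.mk' D b = QuotientGroup.mk' D (a i) → IsConj (a i) b := by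
    intro i b hb
    have hbij : Function.Bijective (fun c : {b : R // IsConj (a i) b} =>
        (⟨c.1, hcls i c.1 c.2⟩ : {b : R // QuotientGroup.mk' D b = QuotientGroup.mk' D (a i)})) := by
      rw [Nat.bijective_iff_injective_and_card]
      exact ⟨fun b c e => Subtype.ext (congrArg (fun w => w.1) e), by rw [hsize, hfib, hidx]⟩
    obtain ⟨⟨c, hc⟩, e⟩ := hbij.2 ⟨b, hb⟩
    have e' : c = b := congrArg Subtype.val e
    exact e' ▸ hc
  have hq1 : ∀ i, QuotientGroup.mk' D (a i) ≠ 1 := fun i e => by
    exact ha1 i (isConj_one_left.1 (hfull i 1 (by rw [map_one, e])))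
  have hqinj : ∀ i j, i ≠ j → QuotientGroup.mk' D (a i) ≠ QuotientGroup.mk' D (a j) := fun i j hij e => by
    obtain ⟨g, hg⟩ := isConj_iff.1 (hfull i (a j) e.symm)
    refine hne i j hij g ?_
    refine (eq_of_le_of_card_ge (hfour j ((P i).map (MulAut.conj g).toMonoidHom)
      (mem_map.2 ⟨z, hzP i, ?_⟩) (mem_map.2 ⟨a i, ha i, hg⟩)) ?_).symm
    · show g * z * g⁻¹ = z
      rw [hzc g, mul_inv_cancel_right]
    · rw [← Nat.card_congr ((P i).equivMapOfInjective _ (MulAut.conj g).injective).toEquiv,
        (hP i).card, (hP j).card]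
  have hD4 : D.index = 4 := by
    have h1 := (P 0).card_mul_index
    have h2 := D.card_mul_index
    rw [(hP 0).card, hidx 0] at h1
    have : Nat.card D * 4 = Nat.card D * D.index := by rw [h2, ← h1, mul_comm]
    exact (Nat.eq_of_mul_eq_mul_left Nat.card_pos this).symm
  -- every element outside the commutator subgroup is an involution
  have hinv : ∀ g, g ∉ D → g * g = 1 := fun g hg => by
    have hne1 : QuotientGroup.mk' D g ≠ 1 := fun e => hg ((QuotientGroup.eq_one_iff g).1 e)
    have hsurj : ∃ i, QuotientGroup.mk' D g = QuotientGroup.mk' D (a i) := by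
      let φ : Option (Fin 3) → R ⧸ D := fun o => o.elim 1 fun i => QuotientGroup.mk' D (a i)
      have hφ : Function.Bijective φ := by
        rw [Nat.bijective_iff_injective_and_card]
        refine ⟨?_, by rw [Finite.card_option, Nat.card_fin, ← index_eq_card, hD4]⟩
        rintro (_ | i) (_ | j) e
        · rfl
        · exact absurd e.symm (hq1 j)
        · exact absurd e (hq1 i)
        · exact congrArg some (not_not.1 fun hij => hqinj i j hij e)
      obtain ⟨o, ho⟩ := hφ.2 (QuotientGroup.mk' D g)
      cases o with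
      | none => exact absurd ho.symm hne1
      | some i => exact ⟨i, ho.symm⟩
    obtain ⟨i, hi⟩ := hsurj
    obtain ⟨k, rfl⟩ := isConj_iff.1 (hfull i g hi)
    calc k * a i * k⁻¹ * (k * a i * k⁻¹) = k * (a i * a i) * k⁻¹ := by group
      _ = 1 := by rw [(hP i).sq _ (ha i), mul_one, mul_inv_cancel]
  have hout : ∀ i, a i ∉ D := fun i h => hq1 i ((QuotientGroup.eq_one_iff _).2 h)
  have hgh : a 0 * a 1 ∉ D := fun h => hqinj 0 1 (by decide) (by
    have h1 : QuotientGroup.mk' D (a 0) * QuotientGroup.mk' D (a 1) = 1 :=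
      (map_mul _ _ _).symm.trans ((QuotientGroup.eq_one_iff _).2 h)
    rw [eq_inv_of_mul_eq_one_left h1, ← map_inv, inv_eq_of_mul_eq_one_right ((hP 1).sq _ (ha 1))])
  have hflip : ∀ g, g ∉ D → ∀ r ∈ D, g * r * g⁻¹ = r⁻¹ := fun g hg r hr => by
    have h1 := hinv (g * r) fun h => hg (by simpa using mul_mem h (inv_mem hr))
    rw [inv_eq_of_mul_eq_one_right (hinv g hg)]
    exact eq_inv_of_mul_eq_one_left (by rw [← h1]; group)
  have hr2 : ∀ r ∈ D, r = r⁻¹ := fun r hr => by
    have h := hflip _ hgh r hr
    rw [show a 0 * a 1 * r * (a 0 * a 1)⁻¹ = a 0 * (a 1 * r * (a 1)⁻¹) * (a 0)⁻¹ by group,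
      hflip _ (hout 1) r hr, hflip _ (hout 0) r⁻¹ (inv_mem hr), inv_inv] at h
    exact h
  have hDP : ∀ i, D ≤ P i := fun i r hr => by
    rw [← hC i, mem_centralizer_singleton_iff]
    have h := hflip _ (hout i) r hr
    rw [← hr2 r hr, mul_inv_eq_iff_eq_mul] at h
    exact h.symm
  have hsmall : (D : Set R) ⊆ {1, z} := fun r hr => by
    by_contra hcon
    simp only [Set.mem_insert_iff, Set.mem_singleton_iff, not_or] at hcon
    have h0 := hDP 0 hr
    have h1 := hDP 1 hr
    have hsub : P 0 ≤ P 1 := by
      intro b hb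
      have hd := card_subgroup_dvd_card ((P 0 ⊓ P 1).subgroupOf (P 0))
      rw [(hP 0).card, Nat.card_congr (subgroupOfEquivOfLe inf_le_left).toEquiv] at hd
      have hge : 3 ≤ Nat.card (P 0 ⊓ P 1 : Subgroup R) := by
        have hs : ({1, z, r} : Set R) ⊆ (P 0 ⊓ P 1 : Subgroup R) := by
          rintro g (rfl | rfl | rfl)
          · exact one_mem _
          · exact ⟨hzP 0, hzP 1⟩
          · exact ⟨h0, h1⟩
        have h3 : ({1, z, r} : Set R).ncard = 3 := by
          rw [Set.ncard_insert_of_notMem (by simp [hz1'.symm, Ne.symm hcon.1]), Set.ncard_pair (Ne.symm hcon.2)]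
        refine h3.ge.trans ?_
        rw [← SetLike.coe_sort_coe, Nat.card_coe_set_eq]
        exact Set.ncard_le_ncard hs
      have h4 : Nat.card (P 0 ⊓ P 1 : Subgroup R) = 4 := by
        have := Nat.le_of_dvd (by norm_num) hd
        generalize Nat.card (P 0 ⊓ P 1 : Subgroup R) = d at hd hge this
        interval_cases d <;> omega
      exact (inf_eq_left.1 (eq_of_le_of_card_ge inf_le_left (by rw [h4, (hP 0).card]))) hb
    refine hne 0 1 (by decide) 1 ?_
    rw [eq_of_le_of_card_ge hsub (by rw [(hP 0).card, (hP 1).card])]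
    ext b
    simp
  have hD2 : Nat.card D ≤ 2 := by
    rw [← SetLike.coe_sort_coe, Nat.card_coe_set_eq]
    exact (Set.ncard_le_ncard hsmall).trans (by simpa using Set.ncard_insert_le (1 : R) {z})
  have hall : ∀ g : R, g * g = 1 := fun g => by
    by_cases hg : g ∈ D
    · exact eq_inv_iff_mul_eq_one.1 (hr2 g hg)
    · exact hinv g hg
  exact hna ⟨⟨fun b c => by
    calc b * c = (b * c)⁻¹ := eq_inv_of_mul_eq_one_left (hall _)
      _ = c⁻¹ * b⁻¹ := mul_inv_rev _ _
      _ = c * b := by rw [← eq_inv_of_mul_eq_one_left (hall c), ← eq_inv_of_mul_eq_one_left (hall b)]⟩⟩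

end Cfsg.Agent.SelfCentThree
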