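import Cfsg.Agent.SelfCentThree.Local
import Cfsg.Agent.SelfCentThree.ThreeFours

/-!
# The two-parts of maximal invariant subgroups
-/

set_option autoImplicit false

namespace Cfsg.Agent.SelfCentThree

open Subgroup

universe u

variable {G : Type u} [Group G]

/-- A maximal invariant subgroup of even order with the structure of its normaliser. -/
structure EvenLoc (x : G) (M : Subgroup G) : Prop where
  sc : Sc x
  max : Max x M
  even : 2 ∣ Nat.card M
  norm : normalizer (part 2 M : Set G) = normalizer (M : Set G)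
  card : Nat.card (normalizer (M : Set G)) = 3 * Nat.card M ∨
    Nat.card (normalizer (M : Set G)) = 6 * Nat.card M

theorem EvenLoc.of_ctx [Finite G] (hG : Ctx G) {x : G} {M : Subgroup G} (h : Sc x) (hM : Max x M)
    (h2 : 2 ∣ Nat.card M) : EvenLoc x M :=
  ⟨h, hM, h2, (local_structure hG h hM 2 h2).1, (local_structure hG h hM 2 h2).2⟩

theorem card_normalizer_cj [Finite G] (g : G) (M : Subgroup G) :
    Nat.card (normalizer ((cj g M : Subgroup G) : Set G)) = Nat.card (normalizer (M : Set G)) := by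
  rw [show normalizer ((cj g M : Subgroup G) : Set G) = cj g (normalizer (M : Set G)) from ?_, card_cj]
  ext a
  conv_rhs => rw [mem_cj, ← mem_normalizer_cj (g := g)]
  rw [show g * (g⁻¹ * a * g) * g⁻¹ = a by group]

theorem EvenLoc.cj [Finite G] {x : G} {M : Subgroup G} (L : EvenLoc x M) (g : G) :
    EvenLoc (g * x * g⁻¹) (SelfCentThree.cj g M) := by
  refine ⟨L.sc.conj g, L.max.cj g, by rw [card_cj]; exact L.even, ?_,
    by rw [card_normalizer_cj, card_cj]; exact L.card⟩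
  rw [part_cj g (L.max.inv.nilpotent L.sc)]
  ext a
  rw [show a = g * (g⁻¹ * a * g) * g⁻¹ by group, mem_normalizer_cj, mem_normalizer_cj, L.norm]

theorem EvenLoc.nil [Finite G] {x : G} {M : Subgroup G} (L : EvenLoc x M) : Group.IsNilpotent M :=
  L.max.inv.nilpotent L.sc

variable [Finite G] {x : G} {M : Subgroup G}

theorem EvenLoc.one_lt_card_part (L : EvenLoc x M) : 2 ≤ Nat.card (part 2 M) := by
  rw [card_part]
  exact Nat.le_self_pow (Nat.Prime.factorization_pos_of_dvd Nat.prime_two Nat.card_pos.ne' L.even).ne' 2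

theorem EvenLoc.inv_part (L : EvenLoc x M) : Inv x (part 2 M) :=
  ⟨normalizer_le_normalizer_part L.nil L.max.inv.norm,
    fun hd => L.max.inv.cop (hd.trans (card_dvd_of_le (part_le 2 M)))⟩

theorem EvenLoc.card_cases (L : EvenLoc x M) : Nat.card (part 2 M) = 4 ∨ 16 ≤ Nat.card (part 2 M) := by
  have h2 := L.one_lt_card_part
  have h3 := L.inv_part.card_mod L.sc
  rw [card_part] at h2 h3 ⊢
  generalize (Nat.card M).factorization 2 = j at h2 h3 ⊢
  rcases j with _ | _ | _ | _ | j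
  · omega
  · omega
  · exact Or.inl rfl
  · omega
  · exact Or.inr (le_trans (by norm_num) (Nat.pow_le_pow_right two_pos (show 4 ≤ j + 4 by omega)))

/-- Two-elements of the normaliser outside the part act on `x` by inversion. -/
theorem EvenLoc.flip (L : EvenLoc x M) {s : G} (hs : s ∈ normalizer (M : Set G)) {j : ℕ}
    (hsj : s ^ 2 ^ j = 1) (hsP : s ∉ part 2 M) : ∃ b ∈ M, s * x * s⁻¹ = b * x⁻¹ * b⁻¹ := by
  set H := normalizer (M : Set G)
  set M' := M.subgroupOf H
  have hn : M'.Normal := normal_in_normalizer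
  have hM' : ¬ 3 ∣ Nat.card M' := by
    rw [Nat.card_congr (subgroupOfEquivOfLe le_normalizer).toEquiv]; exact L.max.inv.cop
  have hy := (L.sc.subgroup L.max.inv.norm).quotient M' hM'
  set xb := QuotientGroup.mk' M' (⟨x, L.max.inv.norm⟩ : H)
  have hcard : Nat.card (H ⧸ M') = 3 ∨ Nat.card (H ⧸ M') = 6 := by
    have h1 := card_eq_card_quotient_mul_card_subgroup M'
    rw [Nat.card_congr (subgroupOfEquivOfLe le_normalizer).toEquiv] at h1
    rcases L.card with e | e <;> rw [show Nat.card H = _ from e] at h1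
    · exact Or.inl (Nat.eq_of_mul_eq_mul_right Nat.card_pos h1).symm
    · exact Or.inr (Nat.eq_of_mul_eq_mul_right Nat.card_pos h1).symm
  have hz : (zpowers xb).Normal := by
    have h1 := (zpowers xb).card_mul_index
    rw [hy.card_zpowers] at h1
    rcases hcard with e | e <;> rw [e] at h1
    · have : (zpowers xb).index = 1 := by omega
      rw [index_eq_one.1 this]
      infer_instance
    · exact normal_of_index_eq_two (by omega)
  set sb := QuotientGroup.mk' M' (⟨s, hs⟩ : H)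
  have hconj : sb * xb * sb⁻¹ ∈ zpowers xb := hz.conj_mem _ (mem_zpowers xb) sb
  have hval : ∀ w : H, QuotientGroup.mk' M' (⟨s, hs⟩ * ⟨x, L.max.inv.norm⟩ * ⟨s, hs⟩⁻¹) =
      QuotientGroup.mk' M' w → ∃ a ∈ M, s * x * s⁻¹ = a * (w : G) := fun w e => by
    have h' := (QuotientGroup.eq.1 e.symm)
    rw [mem_subgroupOf] at h'
    have hwN : (w : G) ∈ normalizer (M : Set G) := w.2
    refine ⟨(w : G) * ((w : G)⁻¹ * (s * x * s⁻¹)) * (w : G)⁻¹, (mem_normalizer_iff.1 hwN _).1 ?_, by group⟩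
    simpa [mul_assoc] using h'
  rcases hy.eq_cases hconj with e | e | e
  · exact absurd (conj_eq_one_iff.1 e) hy.ne
  · exfalso
    have hc : sb ∈ zpowers xb := hy.mem_zpowers_of_commute (mul_inv_eq_iff_eq_mul.1 e)
    have ho : orderOf sb ∣ 2 ^ j := orderOf_dvd_of_pow_eq_one (by
      rw [← map_pow, show (⟨s, hs⟩ : H) ^ 2 ^ j = 1 from Subtype.ext (by simpa using hsj), map_one])
    have h3 : sb = 1 := by
      rw [← orderOf_eq_one_iff]
      refine Nat.eq_one_of_dvd_coprimes (Nat.Coprime.pow_right j (show Nat.Coprime 3 2 by norm_num)) ?_ ho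
      have := orderOf_dvd_natCard (⟨sb, hc⟩ : zpowers xb)
      rwa [orderOf_mk, hy.card_zpowers] at this
    have hsM : s ∈ M := by
      exact ((QuotientGroup.eq_one_iff (⟨s, hs⟩ : H)).1 h3 : (⟨s, hs⟩ : H) ∈ M')
    exact hsP ((mem_part L.nil).2 ⟨hsM, j, hsj⟩)
  · obtain ⟨a, ha, e'⟩ := hval (⟨x, L.max.inv.norm⟩⁻¹) (by
      rw [map_mul, map_mul, map_inv, map_inv, e, hy.inv_eq])
    have hI : Inv x⁻¹ M := ⟨inv_mem L.max.inv.norm, L.max.inv.cop⟩
    obtain ⟨b, hb, hbe⟩ := hI.exists_conj L.sc.inv ha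
    exact ⟨b, hb, by rw [hbe, e']; rfl⟩

/-- An involution outside the part and its image under `x` have no common fixed point. -/
theorem EvenLoc.no_common_fixed (L : EvenLoc x M) {s : G} (hs : s ∈ normalizer (M : Set G))
    (hs2 : s * s = 1) (hsP : s ∉ part 2 M) {z : G} (hz : z ∈ M) (h1 : s * z = z * s)
    (h2 : x * s * x⁻¹ * z = z * (x * s * x⁻¹)) : z = 1 := by
  obtain ⟨b, hb, e⟩ := L.flip hs (j := 1) (by rw [pow_one, sq, hs2]) hsP
  have hsinv : s⁻¹ = s := inv_eq_of_mul_eq_one_right hs2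
  rw [hsinv] at e
  have hy : s * (x * s * x⁻¹) = b * (x⁻¹ * b⁻¹ * x) * x := by
    calc s * (x * s * x⁻¹) = s * x * s * x⁻¹ := by group
      _ = b * x⁻¹ * b⁻¹ * (x * (x * x)⁻¹) := by rw [e]; group
      _ = b * (x⁻¹ * b⁻¹ * x) * x := by rw [← L.sc.inv_eq]; group
  obtain ⟨c, hc, hce⟩ := L.max.inv.exists_conj L.sc (k := b * (x⁻¹ * b⁻¹ * x))
    (mul_mem hb (inv_conj_mem_of_norm L.max.inv.norm (inv_mem hb)))
  have hcomm : Commute (c * x * c⁻¹) z := by
    rw [hce, ← hy]
    exact Commute.mul_left h1 h2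
  have h3 : c⁻¹ * z * c = 1 := by
    refine L.max.inv.fix L.sc (mul_mem (mul_mem (inv_mem hc) hz) hc) ?_
    calc c⁻¹ * z * c * x = c⁻¹ * (z * (c * x * c⁻¹)) * c := by group
      _ = c⁻¹ * ((c * x * c⁻¹) * z) * c := by rw [hcomm.eq]
      _ = x * (c⁻¹ * z * c) := by group
  calc z = c * (c⁻¹ * z * c) * c⁻¹ := by group
    _ = 1 := by rw [h3, mul_one, mul_inv_cancel]

/-- A two-element outside the part cannot fix a central element and its image. -/
theorem EvenLoc.no_central_fixed (L : EvenLoc x M) {s : G} (hs : s ∈ normalizer (M : Set G)) {j : ℕ}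
    (hsj : s ^ 2 ^ j = 1) (hsP : s ∉ part 2 M) {u : G} (hu : u ∈ part 2 M)
    (hc : ∀ a ∈ part 2 M, a * u = u * a) (h1 : s * u * s⁻¹ = u)
    (h2 : s * (x * u * x⁻¹) * s⁻¹ = x * u * x⁻¹) : u = 1 := by
  obtain ⟨b, hb, e⟩ := L.flip hs hsj hsP
  have hN := L.inv_part.norm
  have hu' : x⁻¹ * u * x ∈ part 2 M := inv_conj_mem_of_norm hN hu
  have hc' : ∀ a ∈ part 2 M, a * (x⁻¹ * u * x) = x⁻¹ * u * x * a := fun a ha => by
    calc a * (x⁻¹ * u * x) = x⁻¹ * ((x * a * x⁻¹) * u) * x := by group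
      _ = x⁻¹ * (u * (x * a * x⁻¹)) * x := by rw [hc _ (conj_mem_of_norm hN ha)]
      _ = x⁻¹ * u * x * a := by group
  have hbu := commute_of_central L.nil hu hc hb
  have hbu' := commute_of_central L.nil hu' hc' hb
  have key : x * u * x⁻¹ = x⁻¹ * u * x := by
    calc x * u * x⁻¹ = s * (x * u * x⁻¹) * s⁻¹ := h2.symm
      _ = (s * x * s⁻¹) * (s * u * s⁻¹) * (s * x * s⁻¹)⁻¹ := by group
      _ = b * x⁻¹ * b⁻¹ * u * (b * x * b⁻¹) := by rw [h1, e]; group
      _ = b * x⁻¹ * b⁻¹ * (u * b) * x * b⁻¹ := by group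
      _ = b * x⁻¹ * b⁻¹ * (b * u) * x * b⁻¹ := by rw [hbu]
      _ = b * (x⁻¹ * u * x) * b⁻¹ := by group
      _ = x⁻¹ * u * x * b * b⁻¹ := by rw [hbu']
      _ = x⁻¹ * u * x := by group
  refine L.inv_part.fix L.sc hu ?_
  have h3 : x * x * u * (x * x)⁻¹ = u := by
    calc x * x * u * (x * x)⁻¹ = x * (x * u * x⁻¹) * x⁻¹ := by group
      _ = x * (x⁻¹ * u * x) * x⁻¹ := by rw [key]
      _ = u := by group
  rw [← L.sc.inv_eq, inv_inv] at h3
  calc u * x = x * (x⁻¹ * u * x) := by group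
    _ = x * u := by rw [h3]

/-- The central elements of the part. -/
theorem EvenLoc.inv_center (L : EvenLoc x M) :
    Inv x (part 2 M ⊓ centralizer (part 2 M : Set G)) := by
  refine ⟨?_, fun hd => L.inv_part.cop (hd.trans (card_dvd_of_le inf_le_left))⟩
  have hN := L.inv_part.norm
  rw [mem_normalizer_iff]
  intro u
  simp only [mem_inf, mem_centralizer_iff, SetLike.mem_coe]
  rw [← mem_normalizer_iff.1 hN u]
  refine and_congr_right fun _ => ⟨fun h a ha => ?_, fun h a ha => ?_⟩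
  · calc a * (x * u * x⁻¹) = x * ((x⁻¹ * a * x) * u) * x⁻¹ := by group
      _ = x * (u * (x⁻¹ * a * x)) * x⁻¹ := by rw [h _ (inv_conj_mem_of_norm hN ha)]
      _ = x * u * x⁻¹ * a := by group
  · calc a * u = x⁻¹ * ((x * a * x⁻¹) * (x * u * x⁻¹)) * x := by group
      _ = x⁻¹ * ((x * u * x⁻¹) * (x * a * x⁻¹)) * x := by rw [h _ (conj_mem_of_norm hN ha)]
      _ = u * a := by group

theorem EvenLoc.exists_central (L : EvenLoc x M) :
    ∃ u ∈ part 2 M, u * u = 1 ∧ u ≠ 1 ∧ ∀ a ∈ part 2 M, a * u = u * a := by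
  have : Fact (Nat.Prime 2) := ⟨Nat.prime_two⟩
  have hP : IsPGroup 2 (part 2 M) := part_isPGroup
  have : Nontrivial (part 2 M) := by
    rw [← Finite.one_lt_card_iff_nontrivial]; exact L.one_lt_card_part
  have hc := hP.center_nontrivial
  obtain ⟨k, hk⟩ := (hP.to_subgroup (center (part 2 M))).exists_card_eq
  have h2 : 2 ∣ Nat.card (center (part 2 M)) := by
    have h1 : 1 < Nat.card (center (part 2 M)) := Finite.one_lt_card
    rw [hk] at h1 ⊢
    exact dvd_pow_self 2 (by rintro rfl; simp at h1)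
  obtain ⟨⟨⟨u, hu⟩, huc⟩, huo⟩ := exists_prime_orderOf_dvd_card' 2 h2
  rw [orderOf_mk, orderOf_mk] at huo
  refine ⟨u, hu, by rw [← sq, ← huo, pow_orderOf_eq_one], fun e => ?_, fun a ha => ?_⟩
  · rw [e, orderOf_one] at huo; omega
  · exact congrArg Subtype.val (mem_center_iff.1 huc ⟨a, ha⟩)

/-- The part is self-centralising among two-elements. -/
theorem EvenLoc.cent_le (L : EvenLoc x M) {s : G} {j : ℕ} (hsj : s ^ 2 ^ j = 1)
    (hc : ∀ a ∈ part 2 M, s * a = a * s) : s ∈ part 2 M := by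
  by_contra hsP
  obtain ⟨u, hu, -, hu1, huc⟩ := L.exists_central
  have hs : s ∈ normalizer (M : Set G) := by
    rw [← L.norm]
    refine mem_normalizer_iff.2 fun a => ⟨fun ha => by rwa [hc a ha, mul_inv_cancel_right], fun ha => ?_⟩
    have h := hc _ ha
    have : s * a * s⁻¹ = a := by
      have h' : s * (s * a * s⁻¹) * s⁻¹ = s * a * s⁻¹ := by rw [h, mul_inv_cancel_right]
      have := congrArg (fun w => s⁻¹ * w * s) h'
      simpa [mul_assoc] using this
    rwa [this] at ha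
  refine hu1 (L.no_central_fixed hs hsj hsP hu huc ?_ ?_)
  · rw [hc u hu, mul_inv_cancel_right]
  · rw [hc _ (conj_mem_of_norm L.inv_part.norm hu), mul_inv_cancel_right]

variable {x' : G} {M' : Subgroup G}

/-- Two distinct parts of index two in a common two-group have order four. -/
theorem EvenLoc.pairA (L : EvenLoc x M) (L' : EvenLoc x' M') (A : Subgroup G) (hA : IsPGroup 2 A)
    (hPA : part 2 M ≤ A) (hP'A : part 2 M' ≤ A) (hAN : A ≤ normalizer (part 2 M : Set G))
    (hAN' : A ≤ normalizer (part 2 M' : Set G)) (hne : part 2 M ≠ part 2 M')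
    (hc : Nat.card A = 2 * Nat.card (part 2 M)) (hc' : Nat.card A = 2 * Nat.card (part 2 M')) :
    Nat.card (part 2 M) = 4 := by
  by_contra h4
  have h16 : 16 ≤ Nat.card (part 2 M) := L.card_cases.resolve_left h4
  set P := part 2 M with hPdef
  set P' := part 2 M' with hP'def
  set D := P ⊓ P' with hDdef
  have htwo : ∀ {s : G}, s ∈ A → ∃ j : ℕ, s ^ 2 ^ j = 1 := fun {s} hs => by
    obtain ⟨j, hj⟩ := hA ⟨s, hs⟩
    exact ⟨j, congrArg Subtype.val hj⟩
  have hrel : P'.relIndex A = 2 := by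
    have h1 := (P'.subgroupOf A).card_mul_index
    rw [Nat.card_congr (subgroupOfEquivOfLe hP'A).toEquiv, hc', mul_comm 2] at h1
    exact Nat.eq_of_mul_eq_mul_left Nat.card_pos h1
  have hDrel : D.relIndex P = 2 := by
    have hle : P'.relIndex P ≤ 2 := hrel ▸ relIndex_le_of_le_right hPA (by rw [hrel]; norm_num)
    have h0 : P'.relIndex P ≠ 0 := Nat.ne_of_gt (Nat.pos_of_ne_zero index_ne_zero_of_finite)
    have h1 : P'.relIndex P ≠ 1 := fun e => hne (eq_of_le_of_card_ge (relIndex_eq_one.1 e) (by omega))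
    rw [hDdef, inf_relIndex_left]
    omega
  have hD2 : Nat.card D * 2 = Nat.card P := by
    have h1 := (D.subgroupOf P).card_mul_index
    rwa [Nat.card_congr (subgroupOfEquivOfLe (show D ≤ P from inf_le_left)).toEquiv,
      show (D.subgroupOf P).index = 2 from hDrel] at h1
  have hPn : ∀ {s}, s ∈ A → s ∈ normalizer (M : Set G) := fun {s} hs => L.norm ▸ hAN hs
  have hP'n : ∀ {s}, s ∈ A → s ∈ normalizer (M' : Set G) := fun {s} hs => L'.norm ▸ hAN' hs
  have hN := L.inv_part.norm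
  -- central involutions of the second part lie in the first
  have claim1 : ∀ u ∈ P', u * u = 1 → (∀ a ∈ P', a * u = u * a) → u ∈ P := by
    intro u hu hu2 huc
    by_contra huP
    have hE : Nat.card P ≤ 4 := by
      set D' := SelfCentThree.cj x D with hD'def
      have hD'P : D' ≤ P := by
        have := cj_mono (g := x) (show D ≤ P from inf_le_left)
        rwa [cj_eq_iff.2 hN] at this
      have hb : D ⊓ D' = ⊥ := by
        rw [eq_bot_iff]
        intro z hz
        rw [mem_bot]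
        refine L.no_common_fixed (hPn (hP'A hu)) hu2 huP (part_le 2 M hz.1.1) (huc z hz.1.2).symm ?_
        have h' := huc _ (mem_cj.1 hz.2).2
        calc x * u * x⁻¹ * z = x * (u * (x⁻¹ * z * x)) * x⁻¹ := by group
          _ = x * (x⁻¹ * z * x * u) * x⁻¹ := by rw [h']
          _ = z * (x * u * x⁻¹) := by group
      have h1 := relIndex_inf_le (H := D) (K := D') (L := P)
      have h2 : D'.relIndex P = 2 := by
        have h3 := (D'.subgroupOf P).card_mul_index
        rw [Nat.card_congr (subgroupOfEquivOfLe hD'P).toEquiv, card_cj, ← hD2] at h3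
        exact Nat.eq_of_mul_eq_mul_left Nat.card_pos h3
      rw [hb, relIndex_bot_left, hDrel, h2] at h1
      omega
    omega
  -- and are central in it
  have claim2 : ∀ u ∈ P', u * u = 1 → (∀ a ∈ P', a * u = u * a) → ∀ a ∈ P, a * u = u * a := by
    intro u hu hu2 huc
    have huP := claim1 u hu hu2 huc
    by_contra hcon
    push Not at hcon
    obtain ⟨p₀, hp₀, hp₀u⟩ := hcon
    have hp₀D : p₀ ∉ D := fun h => hp₀u (huc p₀ h.2)
    have hp₀N : p₀ ∈ normalizer (P' : Set G) := hAN' (hPA hp₀)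
    set v := p₀ * u * p₀⁻¹ with hv
    set k := u * v with hk
    have hvP' : v ∈ P' := conj_mem_of_norm hp₀N hu
    have hvc : ∀ a ∈ P', a * v = v * a := fun a ha => by
      have := huc _ (inv_conj_mem_of_norm hp₀N ha)
      calc a * v = p₀ * ((p₀⁻¹ * a * p₀) * u) * p₀⁻¹ := by rw [hv]; group
        _ = p₀ * (u * (p₀⁻¹ * a * p₀)) * p₀⁻¹ := by rw [this]
        _ = v * a := by rw [hv]; group
    have hv2 : v * v = 1 := by
      rw [hv, show p₀ * u * p₀⁻¹ * (p₀ * u * p₀⁻¹) = p₀ * (u * u) * p₀⁻¹ by group, hu2, mul_one,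
        mul_inv_cancel]
    have huv : v = u * k := by rw [hk, ← mul_assoc, hu2, one_mul]
    have hkc : ∀ a ∈ P', a * k = k * a := fun a ha => Commute.mul_right (huc a ha) (hvc a ha)
    have hkP : k ∈ P := mul_mem huP (mul_mem (mul_mem hp₀ huP) (inv_mem hp₀))
    have hk1 : k ≠ 1 := fun e => hp₀u (by
      rw [e, mul_one] at huv
      calc p₀ * u = v * p₀ := by rw [hv]; group
        _ = u * p₀ := by rw [huv])
    have hk2 : k * k = 1 := by
      calc k * k = u * (v * u) * v := by rw [hk]; group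
        _ = u * (u * v) * v := by rw [huc v hvP']
        _ = u * u * (v * v) := by group
        _ = 1 := by rw [hu2, hv2, one_mul]
    have hidx2 : ∀ {a b : G}, a ∈ P → b ∈ P → (a * b ∈ D ↔ (a ∈ D ↔ b ∈ D)) := fun {a b} ha hb => by
      have := mul_mem_iff_of_index_two (show (D.subgroupOf P).index = 2 from hDrel)
        (a := ⟨a, ha⟩) (b := ⟨b, hb⟩)
      simpa [mem_subgroupOf] using this
    have hp₀k : p₀ * k = k * p₀ := by
      have hsq : p₀ * p₀ ∈ D := (hidx2 hp₀ hp₀).2 Iff.rfl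
      have h3 := huc _ hsq.2
      have h4 : p₀ * v * p₀⁻¹ = u := by
        rw [hv]
        calc p₀ * (p₀ * u * p₀⁻¹) * p₀⁻¹ = p₀ * p₀ * u * (p₀ * p₀)⁻¹ := by group
          _ = u := by rw [h3, mul_inv_cancel_right]
      calc p₀ * k = (p₀ * u * p₀⁻¹) * (p₀ * v * p₀⁻¹) * p₀ := by rw [hk]; group
        _ = v * u * p₀ := by rw [h4]
        _ = u * v * p₀ := by rw [huc v hvP']
        _ = k * p₀ := rfl
    -- conjugation of `u` by elements of the part
    have hcases : ∀ p ∈ P, (p ∈ D → p * u * p⁻¹ = u) ∧ (p ∉ D → p * u * p⁻¹ = u * k) := fun p hp => by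
      refine ⟨fun h => by rw [huc p h.2, mul_inv_cancel_right], fun h => ?_⟩
      have hd : p * p₀⁻¹ ∈ D := (hidx2 hp (inv_mem hp₀)).2 (by rw [inv_mem_iff]; tauto)
      calc p * u * p⁻¹ = p * p₀⁻¹ * (p₀ * u * p₀⁻¹) * (p * p₀⁻¹)⁻¹ := by group
        _ = u * k := by rw [← hv, hvc _ hd.2, mul_inv_cancel_right, huv]
    have hkcent : ∀ a ∈ P, a * k = k * a := fun a ha => by
      by_cases haD : a ∈ D
      · exact hkc a haD.2
      · have hd : a * p₀⁻¹ ∈ D := (hidx2 ha (inv_mem hp₀)).2 (by rw [inv_mem_iff]; tauto)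
        calc a * k = a * p₀⁻¹ * (p₀ * k) := by group
          _ = a * p₀⁻¹ * (k * p₀) := by rw [hp₀k]
          _ = a * p₀⁻¹ * k * p₀ := by group
          _ = k * (a * p₀⁻¹) * p₀ := by rw [hkc _ hd.2]
          _ = k * a := by group
    -- the intersection is not invariant
    obtain ⟨p, hpD, hqD⟩ : ∃ p ∈ D, x⁻¹ * p * x ∉ D := by
      by_contra hcon
      push Not at hcon
      have hle : SelfCentThree.cj x⁻¹ D ≤ D := fun d hd => by
        rw [mem_cj, inv_inv] at hd
        have := hcon _ hd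
        rwa [show x⁻¹ * (x * d * x⁻¹) * x = d by group] at this
      have hxD : x ∈ normalizer (D : Set G) :=
        inv_mem_iff.1 (cj_eq_iff.1 (eq_of_le_of_card_ge hle (by rw [card_cj])))
      have hID : Inv x D := ⟨hxD, fun hd => L.inv_part.cop (hd.trans (card_dvd_of_le inf_le_left))⟩
      have hm : x * p₀⁻¹ * x⁻¹ ∈ P := conj_mem_of_norm hN (inv_mem hp₀)
      have hm' : x * p₀⁻¹ * x⁻¹ ∉ D := fun h => hp₀D (inv_mem_iff.1 ((mem_normalizer_iff.1 hxD p₀⁻¹).2 h))
      obtain ⟨a, ha, e⟩ := hID.exists_conj L.sc ((hidx2 hp₀ hm).2 (by tauto))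
      have : a⁻¹ * p₀ = 1 := L.inv_part.fix L.sc (mul_mem (inv_mem ha.1) hp₀) (by
        calc a⁻¹ * p₀ * x = a⁻¹ * (p₀ * (x * p₀⁻¹ * x⁻¹) * x) * p₀ := by group
          _ = a⁻¹ * (a * x * a⁻¹) * p₀ := by rw [e]
          _ = x * (a⁻¹ * p₀) := by group)
      exact hp₀D (inv_mul_eq_one.1 this ▸ ha)
    set k1 := x * k * x⁻¹ with hk1def
    set k2 := x⁻¹ * k * x with hk2def
    set u1 := x * u * x⁻¹ with hu1def
    set u2 := x⁻¹ * u * x with hu2def
    have hk1P : k1 ∈ P := conj_mem_of_norm hN hkP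
    have hk1c : ∀ a ∈ P, a * k1 = k1 * a := fun a ha => by
      calc a * k1 = x * ((x⁻¹ * a * x) * k) * x⁻¹ := by rw [hk1def]; group
        _ = x * (k * (x⁻¹ * a * x)) * x⁻¹ := by rw [hkcent _ (inv_conj_mem_of_norm hN ha)]
        _ = k1 * a := by rw [hk1def]; group
    have hq : x⁻¹ * p * x ∈ P := inv_conj_mem_of_norm hN hpD.1
    have hr : x * p * x⁻¹ ∈ P := conj_mem_of_norm hN hpD.1
    have e0 : p * u * p⁻¹ = u := (hcases p hpD.1).1 hpD
    have e1 : p * u1 * p⁻¹ = u1 * k1 := by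
      have := (hcases _ hq).2 hqD
      calc p * u1 * p⁻¹ = x * ((x⁻¹ * p * x) * u * (x⁻¹ * p * x)⁻¹) * x⁻¹ := by rw [hu1def]; group
        _ = u1 * k1 := by rw [this, hu1def, hk1def]; group
    have hnorm : u * u1 * u2 = 1 := L.inv_part.norm_eq_one L.sc huP
    have e2 : u * (u1 * k1) * (p * u2 * p⁻¹) = 1 := by
      rw [← e1]
      calc u * (p * u1 * p⁻¹) * (p * u2 * p⁻¹) = (p * u * p⁻¹) * (p * u1 * p⁻¹) * (p * u2 * p⁻¹) := by rw [e0]
        _ = p * (u * u1 * u2) * p⁻¹ := by group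
        _ = 1 := by rw [hnorm, mul_one, mul_inv_cancel]
    have hu2P : u2 ∈ P := inv_conj_mem_of_norm hN huP
    have hx_of : ∀ {w : G}, x * w * x⁻¹ = 1 → w = 1 := fun h => conj_eq_one_iff.1 h
    by_cases hrD : x * p * x⁻¹ ∈ D
    · have e3 : p * u2 * p⁻¹ = u2 := by
        have := (hcases _ hr).1 hrD
        calc p * u2 * p⁻¹ = x⁻¹ * ((x * p * x⁻¹) * u * (x * p * x⁻¹)⁻¹) * x := by rw [hu2def]; group
          _ = u2 := by rw [this]
      rw [e3] at e2
      refine hk1 (hx_of ?_)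
      calc k1 = k1 * (u * u1 * u2) := by rw [hnorm, mul_one]
        _ = (k1 * u) * u1 * u2 := by group
        _ = (u * k1) * u1 * u2 := by rw [hk1c u huP]
        _ = u * (k1 * u1) * u2 := by group
        _ = u * (u1 * k1) * u2 := by rw [hk1c u1 (conj_mem_of_norm hN huP)]
        _ = 1 := e2
    · have e3 : p * u2 * p⁻¹ = u2 * k2 := by
        have := (hcases _ hr).2 hrD
        calc p * u2 * p⁻¹ = x⁻¹ * ((x * p * x⁻¹) * u * (x * p * x⁻¹)⁻¹) * x := by rw [hu2def]; group
          _ = u2 * k2 := by rw [this, hu2def, hk2def]; group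
      rw [e3] at e2
      have hkk : k1 * k2 = 1 := by
        calc k1 * k2 = (u * u1 * u2) * (k1 * k2) := by rw [hnorm, one_mul]
          _ = u * u1 * (u2 * k1) * k2 := by group
          _ = u * u1 * (k1 * u2) * k2 := by rw [hk1c u2 hu2P]
          _ = u * (u1 * k1) * (u2 * k2) := by group
          _ = 1 := e2
      have hkn : k * k1 * k2 = 1 := L.inv_part.norm_eq_one L.sc hkP
      rw [mul_assoc, hkk, mul_one] at hkn
      exact hk1 hkn
  obtain ⟨u, hu, hu2, hu1, huc⟩ := L'.exists_central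
  obtain ⟨s, hs, hsP'⟩ : ∃ s ∈ P, s ∉ P' := by
    by_contra hcon
    push Not at hcon
    exact hne (eq_of_le_of_card_ge hcon (by omega))
  obtain ⟨j, hj⟩ := htwo (hPA hs)
  have hN' := L'.inv_part.norm
  refine hu1 (L'.no_central_fixed (hP'n (hPA hs)) hj hsP' hu huc ?_ ?_)
  · rw [claim2 u hu hu2 huc s hs, mul_inv_cancel_right]
  · rw [claim2 (x' * u * x'⁻¹) (conj_mem_of_norm hN' hu)
      (by rw [show x' * u * x'⁻¹ * (x' * u * x'⁻¹) = x' * (u * u) * x'⁻¹ by group, hu2, mul_one, mul_inv_cancel])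
      (fun a ha => by
        calc a * (x' * u * x'⁻¹) = x' * ((x'⁻¹ * a * x') * u) * x'⁻¹ := by group
          _ = x' * (u * (x'⁻¹ * a * x')) * x'⁻¹ := by rw [huc _ (inv_conj_mem_of_norm hN' ha)]
          _ = x' * u * x'⁻¹ * a := by group) s hs, mul_inv_cancel_right]

end Cfsg.Agent.SelfCentThree
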