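import Cfsg.Agent.Coherence.ThompsonFPF
import Mathlib.GroupTheory.Sylow
import Mathlib.GroupTheory.PGroup
import Mathlib.GroupTheory.Nilpotent

/-!
# A self-centralising element of order three acting on subgroups of order prime to three
-/

set_option autoImplicit false

namespace Cfsg.Agent.SelfCentThree

open Subgroup

universe u v

variable {G : Type u} [Group G]

/-- `x` has order three and generates its own centraliser. -/
structure Sc (x : G) : Prop where
  cube : x ^ 3 = 1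
  ne : x ≠ 1
  cent : centralizer ({x} : Set G) = zpowers x

/-- An `x`-invariant subgroup of order prime to three. -/
structure Inv (x : G) (K : Subgroup G) : Prop where
  norm : x ∈ normalizer (K : Set G)
  cop : ¬ 3 ∣ Nat.card K

variable {x : G}

theorem Sc.orderOf (h : Sc x) : orderOf x = 3 := by
  have : Fact (Nat.Prime 3) := ⟨Nat.prime_three⟩
  exact orderOf_eq_prime h.cube h.ne

theorem Sc.card_zpowers (h : Sc x) : Nat.card (zpowers x) = 3 := by
  rw [Nat.card_zpowers, h.orderOf]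

theorem Sc.mem_zpowers_of_commute (h : Sc x) {g : G} (hg : g * x = x * g) : g ∈ zpowers x := by
  rw [← h.cent, mem_centralizer_singleton_iff]; exact hg

theorem Sc.eq_cases (h : Sc x) {g : G} (hg : g ∈ zpowers x) : g = 1 ∨ g = x ∨ g = x * x := by
  obtain ⟨i, rfl⟩ := mem_zpowers_iff.1 hg
  have h3 : x ^ (3 : ℤ) = 1 := by rw [← h.cube]; norm_cast
  have hi : x ^ i = x ^ (i % 3) := by
    conv_lhs => rw [← Int.emod_add_mul_ediv i 3, zpow_add, zpow_mul, h3, one_zpow, mul_one]
  rw [hi]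
  rcases (show i % 3 = 0 ∨ i % 3 = 1 ∨ i % 3 = 2 by omega) with e | e | e <;> rw [e]
  · left; simp
  · right; left; simp
  · right; right; rw [show (2 : ℤ) = 1 + 1 from rfl, zpow_add]; simp

theorem Inv.not_three_dvd_orderOf [Finite G] {K : Subgroup G} (hK : Inv x K) {g : G} (hg : g ∈ K) :
    ¬ 3 ∣ orderOf g := fun h => hK.cop (h.trans (by
      rw [← orderOf_mk g hg]; exact orderOf_dvd_natCard _))

theorem Inv.fix [Finite G] (h : Sc x) {K : Subgroup G} (hK : Inv x K) {g : G} (hg : g ∈ K)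
    (hc : g * x = x * g) : g = 1 := by
  have h3 := hK.not_three_dvd_orderOf hg
  rcases h.eq_cases (h.mem_zpowers_of_commute hc) with e | e | e
  · exact e
  · exact absurd (by rw [e, h.orderOf]) h3
  · refine absurd ?_ h3
    have : Fact (Nat.Prime 3) := ⟨Nat.prime_three⟩
    have h2 : (x * x) ^ 3 = 1 := by
      rw [← sq, ← pow_mul, show 2 * 3 = 3 * 2 from rfl, pow_mul, h.cube, one_pow]
    rw [e, orderOf_eq_prime h2 fun e' => h.ne ?_]
    calc x = x ^ 3 := by rw [pow_succ, sq, e', one_mul]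
      _ = 1 := h.cube

theorem conj_mem_of_norm {K : Subgroup G} (hx : x ∈ normalizer (K : Set G)) {k : G} (hk : k ∈ K) :
    x * k * x⁻¹ ∈ K := (mem_normalizer_iff.1 hx k).1 hk

theorem inv_conj_mem_of_norm {K : Subgroup G} (hx : x ∈ normalizer (K : Set G)) {k : G} (hk : k ∈ K) :
    x⁻¹ * k * x ∈ K := by
  have := (mem_normalizer_iff.1 (inv_mem hx) k).1 hk
  rwa [inv_inv] at this

/-- Every element of the coset of `x` is a conjugate of `x`. -/
theorem Inv.exists_conj [Finite G] (h : Sc x) {K : Subgroup G} (hK : Inv x K) {k : G} (hk : k ∈ K) :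
    ∃ a ∈ K, a * x * a⁻¹ = k * x := by
  let f : K → K := fun a => ⟨a * (x * (a : G)⁻¹ * x⁻¹),
    mul_mem a.2 (conj_mem_of_norm hK.norm (inv_mem a.2))⟩
  have hf : Function.Injective f := by
    rintro ⟨a, ha⟩ ⟨b, hb⟩ e
    have e' : a * (x * a⁻¹ * x⁻¹) = b * (x * b⁻¹ * x⁻¹) := congrArg Subtype.val e
    have hc : (b⁻¹ * a) * x = x * (b⁻¹ * a) := by
      calc (b⁻¹ * a) * x = b⁻¹ * (a * (x * a⁻¹ * x⁻¹)) * x * a := by group
        _ = b⁻¹ * (b * (x * b⁻¹ * x⁻¹)) * x * a := by rw [e']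
        _ = x * (b⁻¹ * a) := by group
    exact Subtype.ext (inv_mul_eq_one.1 (hK.fix h (mul_mem (inv_mem hb) ha) hc)).symm
  obtain ⟨⟨a, ha⟩, e⟩ := Finite.injective_iff_surjective.1 hf ⟨k, hk⟩
  have e' : a * (x * a⁻¹ * x⁻¹) = k := congrArg Subtype.val e
  exact ⟨a, ha, by rw [← e']; group⟩

theorem Inv.coset_cube [Finite G] (h : Sc x) {K : Subgroup G} (hK : Inv x K) {k : G} (hk : k ∈ K) :
    (k * x) ^ 3 = 1 := by
  obtain ⟨a, -, e⟩ := hK.exists_conj h hk
  rw [← e, conj_pow, h.cube, mul_one, mul_inv_cancel]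

/-- `k` times its two images is the identity. -/
theorem Inv.norm_eq_one [Finite G] (h : Sc x) {K : Subgroup G} (hK : Inv x K) {k : G} (hk : k ∈ K) :
    k * (x * k * x⁻¹) * (x⁻¹ * k * x) = 1 := by
  have h3 : x * x * x = 1 := by rw [← h.cube, pow_succ, sq]
  calc k * (x * k * x⁻¹) * (x⁻¹ * k * x) = k * x * k * ((x * x)⁻¹) * k * x := by group
    _ = k * x * k * x * k * x := by rw [inv_eq_of_mul_eq_one_right h3]
    _ = (k * x) ^ 3 := by rw [pow_succ, sq]; group
    _ = 1 := hK.coset_cube h hk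

theorem Inv.inf_centralizer [Finite G] (h : Sc x) {K : Subgroup G} (hK : Inv x K) :
    K ⊓ centralizer {x} = ⊥ :=
  eq_bot_iff.2 fun _ hg => mem_bot.2 (hK.fix h hg.1 (mem_centralizer_singleton_iff.1 hg.2))

theorem Inv.nilpotent [Finite G] (h : Sc x) {K : Subgroup G} (hK : Inv x K) : Group.IsNilpotent K :=
  Coherence.isNilpotent_of_fpf_prime Nat.prime_three h.cube hK.norm (hK.inf_centralizer h)

/-- Congruence from a fixed-point-free permutation of order three. -/
theorem card_mod_three {α : Type*} [Finite α] (σ : Equiv.Perm α) (hσ : σ ^ 3 = 1) (a : α)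
    (hfix : ∀ b, σ b = b ↔ b = a) : Nat.card α % 3 = 1 := by
  have : Fact (Nat.Prime 3) := ⟨Nat.prime_three⟩
  have hp : IsPGroup 3 (zpowers σ) := fun ⟨g, hg⟩ => by
    obtain ⟨i, rfl⟩ := mem_zpowers_iff.1 hg
    refine ⟨1, Subtype.ext ?_⟩
    show (σ ^ i) ^ (3 ^ 1) = 1
    rw [pow_one, ← zpow_natCast, ← zpow_mul, mul_comm, zpow_mul, zpow_natCast, hσ, one_zpow]
  have h1 := hp.card_modEq_card_fixedPoints α
  have h2 : MulAction.fixedPoints (zpowers σ) α = {a} := by
    ext b
    rw [MulAction.mem_fixedPoints, Set.mem_singleton_iff, ← hfix b]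
    refine ⟨fun hb => hb ⟨σ, mem_zpowers σ⟩, fun hb g => ?_⟩
    obtain ⟨i, hi⟩ := mem_zpowers_iff.1 g.2
    show (g : Equiv.Perm α) b = b
    rw [← hi]
    exact Equiv.Perm.zpow_apply_eq_self_of_apply_eq_self hb i
  rw [h2, Nat.card_coe_set_eq, Set.ncard_singleton] at h1
  exact h1

theorem Inv.card_mod [Finite G] (h : Sc x) {K : Subgroup G} (hK : Inv x K) :
    Nat.card K % 3 = 1 := by
  let σ : Equiv.Perm K :=
    { toFun := fun a => ⟨x * a * x⁻¹, conj_mem_of_norm hK.norm a.2⟩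
      invFun := fun a => ⟨x⁻¹ * a * x, inv_conj_mem_of_norm hK.norm a.2⟩
      left_inv := fun a => Subtype.ext (by simp [mul_assoc])
      right_inv := fun a => Subtype.ext (by simp [mul_assoc]) }
  refine card_mod_three σ ?_ 1 fun b => ?_
  · ext b
    show x * (x * (x * (b : G) * x⁻¹) * x⁻¹) * x⁻¹ = b
    calc x * (x * (x * (b : G) * x⁻¹) * x⁻¹) * x⁻¹ = x ^ 3 * b * (x ^ 3)⁻¹ := by
          rw [pow_succ, sq]; group
      _ = b := by rw [h.cube]; group
  · refine ⟨fun e => Subtype.ext (hK.fix h b.2 ?_), fun e => by subst e; exact Subtype.ext (by simp [σ])⟩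
    have e' : x * (b : G) * x⁻¹ = b := congrArg Subtype.val e
    rw [mul_inv_eq_iff_eq_mul] at e'
    exact e'.symm

/-- The image of an invariant subgroup has no fixed point. -/
theorem Inv.image_fix [Finite G] {H : Type v} [Group H] (h : Sc x) {K : Subgroup G} (hK : Inv x K)
    (f : G →* H) {g : H} (hg : g ∈ K.map f) (hc : g * f x = f x * g) : g = 1 := by
  obtain ⟨k, hk, rfl⟩ := hg
  have hK0 : Inv x (K ⊓ f.ker) := by
    refine ⟨mem_normalizer_iff.2 fun a => ?_,
      fun hd => hK.cop (hd.trans (card_dvd_of_le inf_le_left))⟩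
    rw [mem_inf, mem_inf, MonoidHom.mem_ker, MonoidHom.mem_ker, ← mem_normalizer_iff.1 hK.norm a]
    simp [conj_eq_one_iff]
  have hc0 : k * x * k⁻¹ * x⁻¹ ∈ K ⊓ f.ker := by
    refine ⟨?_, ?_⟩
    · rw [show k * x * k⁻¹ * x⁻¹ = k * (x * k⁻¹ * x⁻¹) by group]
      exact mul_mem hk (conj_mem_of_norm hK.norm (inv_mem hk))
    · show k * x * k⁻¹ * x⁻¹ ∈ f.ker
      rw [MonoidHom.mem_ker, map_mul, map_mul, map_mul, hc]
      simp
  obtain ⟨a, ha, e⟩ := hK0.exists_conj h hc0
  have hka : a⁻¹ * k = 1 := by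
    refine hK.fix h (mul_mem (inv_mem ha.1) hk) ?_
    calc a⁻¹ * k * x = a⁻¹ * (k * x * k⁻¹ * x⁻¹ * x) * k := by group
      _ = a⁻¹ * (a * x * a⁻¹) * k := by rw [e]
      _ = x * (a⁻¹ * k) := by group
  rw [← inv_mul_eq_one.1 hka]
  exact ha.2

theorem Inv.map_card_mod [Finite G] {H : Type v} [Group H] [Finite H] (h : Sc x) {K : Subgroup G}
    (hK : Inv x K) (f : G →* H) : Nat.card (K.map f) % 3 = 1 := by
  have hn : f x ∈ normalizer ((K.map f) : Set H) :=
    K.le_normalizer_map f ⟨x, hK.norm, rfl⟩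
  let σ : Equiv.Perm (K.map f) :=
    { toFun := fun a => ⟨f x * a * (f x)⁻¹, conj_mem_of_norm hn a.2⟩
      invFun := fun a => ⟨(f x)⁻¹ * a * f x, inv_conj_mem_of_norm hn a.2⟩
      left_inv := fun a => Subtype.ext (by simp [mul_assoc])
      right_inv := fun a => Subtype.ext (by simp [mul_assoc]) }
  refine card_mod_three σ ?_ 1 fun b => ?_
  · ext b
    show f x * (f x * (f x * (b : H) * (f x)⁻¹) * (f x)⁻¹) * (f x)⁻¹ = b
    calc f x * (f x * (f x * (b : H) * (f x)⁻¹) * (f x)⁻¹) * (f x)⁻¹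
        = f x ^ 3 * b * (f x ^ 3)⁻¹ := by rw [pow_succ, sq]; group
      _ = b := by rw [← map_pow, h.cube, map_one]; group
  · refine ⟨fun e => Subtype.ext (hK.image_fix h f b.2 ?_), fun e => by subst e; exact Subtype.ext (by simp [σ])⟩
    have e' : f x * (b : H) * (f x)⁻¹ = b := congrArg Subtype.val e
    rw [mul_inv_eq_iff_eq_mul] at e'
    exact e'.symm

/-- `a` commutes with its conjugate under `x` when both `a x` and `a x⁻¹` have order three. -/
theorem commute_of_cubes {x a : G} (hx : x ^ 3 = 1) (h1 : (a * x) ^ 3 = 1) (h2 : (a * x⁻¹) ^ 3 = 1) :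
    Commute (x * a * x⁻¹) (x⁻¹ * a * x) := by
  have h3 : x * x = x⁻¹ := (inv_eq_of_mul_eq_one_right (a := x) (by rw [← hx, pow_succ, sq]; group)).symm
  have e1 : a * (x * a * x⁻¹) * (x⁻¹ * a * x) = 1 := by
    calc a * (x * a * x⁻¹) * (x⁻¹ * a * x) = a * x * a * ((x * x)⁻¹) * a * x := by group
      _ = a * x * a * x * a * x := by rw [h3, inv_inv]
      _ = (a * x) ^ 3 := by rw [pow_succ, sq]; group
      _ = 1 := h1
  have e2 : a * (x⁻¹ * a * x) * (x * a * x⁻¹) = 1 := by
    calc a * (x⁻¹ * a * x) * (x * a * x⁻¹) = a * x⁻¹ * a * (x * x) * a * x⁻¹ := by group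
      _ = a * x⁻¹ * a * x⁻¹ * a * x⁻¹ := by rw [h3]
      _ = (a * x⁻¹) ^ 3 := by rw [pow_succ, sq]; group
      _ = 1 := h2
  rw [mul_assoc] at e1 e2
  exact (inv_eq_of_mul_eq_one_right e1).symm.trans (inv_eq_of_mul_eq_one_right e2)

/-- Such an element lies in an invariant subgroup of order prime to three. -/
theorem exists_inv_of_cubes [Finite G] (h : Sc x) {a : G} (ha : a ∉ zpowers x)
    (h1 : (a * x) ^ 3 = 1) (h2 : (a * x⁻¹) ^ 3 = 1) : ∃ K : Subgroup G, Inv x K ∧ a ∈ K := by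
  have hb := commute_of_cubes h.cube h1 h2
  set b := x * a * x⁻¹
  set c := x⁻¹ * a * x
  have h3 : x * x = x⁻¹ := (inv_eq_of_mul_eq_one_right (a := x) (by rw [← h.cube, pow_succ, sq]; group)).symm
  have hab : a * b * c = 1 := by
    calc a * (x * a * x⁻¹) * (x⁻¹ * a * x) = a * x * a * ((x * x)⁻¹) * a * x := by group
      _ = a * x * a * x * a * x := by rw [h3, inv_inv]
      _ = (a * x) ^ 3 := by rw [pow_succ, sq]; group
      _ = 1 := h1
  have ha' : a = (b * c)⁻¹ := eq_inv_of_mul_eq_one_left (by rw [← mul_assoc]; exact hab)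
  set K := closure ({b, c} : Set G)
  have hKc : ∀ g ∈ K, ∀ k ∈ K, g * k = k * g := by
    have : K ≤ centralizer (K : Set G) := by
      rw [centralizer_closure]
      refine (closure_le _).2 ?_
      rintro g (rfl | rfl) k (rfl | rfl) <;> first | rfl | exact hb.eq | exact hb.eq.symm
    exact fun g hg k hk => this hk g hg
  have hbK : b ∈ K := subset_closure (by simp)
  have hcK : c ∈ K := subset_closure (by simp)
  have haK : a ∈ K := ha' ▸ inv_mem (mul_mem hbK hcK)
  have hN : ∀ g ∈ K, x * g * x⁻¹ ∈ K := by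
    have : K ≤ K.comap (MulAut.conj x).toMonoidHom := by
      refine (closure_le _).2 ?_
      rintro g (rfl | rfl)
      · show x * (x * a * x⁻¹) * x⁻¹ ∈ K
        rw [show x * (x * a * x⁻¹) * x⁻¹ = (x * x) * a * (x * x)⁻¹ by group, h3, inv_inv]
        exact hcK
      · show x * (x⁻¹ * a * x) * x⁻¹ ∈ K
        rw [show x * (x⁻¹ * a * x) * x⁻¹ = a by group]
        exact haK
    exact fun g hg => this hg
  have hnorm : x ∈ normalizer (K : Set G) := by
    refine mem_normalizer_iff.2 fun g => ⟨hN g, fun hg => ?_⟩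
    have := hN _ (hN _ hg)
    rwa [show x * (x * (x * g * x⁻¹) * x⁻¹) * x⁻¹ = x ^ 3 * g * (x ^ 3)⁻¹ by rw [pow_succ, sq]; group,
      h.cube, one_mul, inv_one, mul_one] at this
  have hfix : ∀ g ∈ K, g * x = x * g → g = 1 := fun g hg hgx => by
    by_contra hne
    have : x ∈ K := by
      rcases h.eq_cases (h.mem_zpowers_of_commute hgx) with e | e | e
      · exact absurd e hne
      · exact e ▸ hg
      · rw [e, h3] at hg
        exact inv_mem_iff.1 hg
    refine ha (h.mem_zpowers_of_commute (hKc a haK x this))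
  refine ⟨K, ⟨hnorm, fun hd => ?_⟩, haK⟩
  let σ : Equiv.Perm K :=
    { toFun := fun g => ⟨x * g * x⁻¹, conj_mem_of_norm hnorm g.2⟩
      invFun := fun g => ⟨x⁻¹ * g * x, inv_conj_mem_of_norm hnorm g.2⟩
      left_inv := fun g => Subtype.ext (by simp [mul_assoc])
      right_inv := fun g => Subtype.ext (by simp [mul_assoc]) }
  have hm : Nat.card K % 3 = 1 := by
    refine card_mod_three σ ?_ 1 fun g => ?_
    · ext g
      show x * (x * (x * (g : G) * x⁻¹) * x⁻¹) * x⁻¹ = g
      calc x * (x * (x * (g : G) * x⁻¹) * x⁻¹) * x⁻¹ = x ^ 3 * g * (x ^ 3)⁻¹ := by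
            rw [pow_succ, sq]; group
        _ = g := by rw [h.cube]; group
    · refine ⟨fun e => Subtype.ext (hfix g g.2 ?_), fun e => by subst e; exact Subtype.ext (by simp [σ])⟩
      have e' : x * (g : G) * x⁻¹ = g := congrArg Subtype.val e
      rw [mul_inv_eq_iff_eq_mul] at e'
      exact e'.symm
  omega

end Cfsg.Agent.SelfCentThree
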