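import Cfsg.Agent.SelfCentThree.Part
import Cfsg.Agent.SelfCentThree.Small

/-!
# Normalisers of primary parts of maximal invariant subgroups
-/

set_option autoImplicit false

namespace Cfsg.Agent.SelfCentThree

open Subgroup

universe u v

/-- A simple group all of whose proper subgroups satisfy the conclusion. -/
structure Ctx (G : Type u) [Group G] : Prop where
  simple : IsSimpleGroup G
  na : ¬ IsMulCommutative G
  ih : ∀ H : Subgroup G, H ≠ ⊤ → ∀ y : G, Sc y → y ∈ H → Concl H

variable {G : Type u} [Group G] [Finite G] {x : G} {M : Subgroup G}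

theorem Inv.subgroupOf {H : Subgroup G} (hM : Inv x M) (hle : M ≤ H) (hx : x ∈ H) :
    Inv (⟨x, hx⟩ : H) (M.subgroupOf H) := by
  refine ⟨mem_normalizer_iff.2 fun a => ?_, ?_⟩
  · simp only [mem_subgroupOf, Subgroup.coe_mul, Subgroup.coe_inv]
    exact mem_normalizer_iff.1 hM.norm a
  · rw [Nat.card_congr (subgroupOfEquivOfLe hle).toEquiv]
    exact hM.cop

theorem Inv.map_subtype {H : Subgroup G} {y : H} {K : Subgroup H} (hK : Inv y K) :
    Inv (y : G) (K.map H.subtype) := by
  refine ⟨K.le_normalizer_map H.subtype ⟨y, hK.norm, rfl⟩, ?_⟩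
  rw [card_map_of_injective H.subtype_injective]
  exact hK.cop

/-- The preimage of an invariant subgroup. -/
theorem Inv.comap {H : Type v} [Group H] {K : Subgroup H} (f : G →* H) (hf : Function.Surjective f)
    (hker : ¬ 3 ∣ Nat.card f.ker) (hK : Inv (f x) K) : Inv x (K.comap f) := by
  refine ⟨K.le_normalizer_comap f hK.norm, fun hd => ?_⟩
  have h3 : Nat.Prime 3 := Nat.prime_three
  have : Fact (Nat.Prime 3) := ⟨h3⟩
  obtain ⟨⟨z, hz⟩, hzo⟩ := exists_prime_orderOf_dvd_card' 3 hd
  rw [orderOf_mk] at hzo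
  have : Finite H := Finite.of_surjective f hf
  by_cases hfz : f z = 1
  · refine hker ?_
    rw [← hzo, ← orderOf_mk z (MonoidHom.mem_ker.2 hfz)]
    exact orderOf_dvd_natCard _
  · refine hK.cop ?_
    have h1 : orderOf (f z) = 3 := orderOf_eq_prime (by rw [← map_pow, ← hzo, pow_orderOf_eq_one, map_one]) hfz
    rw [← h1, ← orderOf_mk (f z) hz]
    exact orderOf_dvd_natCard _

/-- The structure of the normaliser of a primary part. -/
theorem local_structure (hG : Ctx G) (h : Sc x) (hM : Max x M) (p : ℕ) [Fact p.Prime]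
    (hp : p ∣ Nat.card M) :
    normalizer (part p M : Set G) = normalizer (M : Set G) ∧
      (Nat.card (normalizer (M : Set G)) = 3 * Nat.card M ∨
        Nat.card (normalizer (M : Set G)) = 6 * Nat.card M) := by
  have hpp : p.Prime := Fact.out
  have := hG.simple
  have hnil := hM.inv.nilpotent h
  have hle := normalizer_le_normalizer_part (p := p) hnil
  have hxH : x ∈ normalizer (part p M : Set G) := hle hM.inv.norm
  have hMH : M ≤ normalizer (part p M : Set G) := le_normalizer_part hnil
  have hP1 : part p M ≠ ⊥ := fun e => by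
    have := card_part p M
    rw [e, card_bot] at this
    have h0 : (Nat.card M).factorization p = 0 := by
      by_contra hne
      exact absurd this.symm (Nat.one_lt_pow hne hpp.one_lt).ne'
    have := (Nat.Prime.factorization_pos_of_dvd hpp Nat.card_pos.ne' hp)
    omega
  have hPH : part p M ≤ normalizer (part p M : Set G) := le_normalizer
  have hH : normalizer (part p M : Set G) ≠ ⊤ := fun e => by
    rw [normalizer_eq_top_iff] at e
    rcases e.eq_bot_or_eq_top with e1 | e1
    · exact hP1 e1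
    · refine hM.inv.cop (h.three_dvd.trans ?_)
      have : M = ⊤ := top_unique (e1 ▸ part_le p M)
      rw [this, card_top]
  have hC := hG.ih _ hH x h hxH
  revert hC
  generalize hHdef : normalizer (part p M : Set G) = H at hxH hMH hPH hle hH ⊢
  intro hC
  have hy : Sc (⟨x, hxH⟩ : H) := h.subgroup hxH
  have hM' : Inv (⟨x, hxH⟩ : H) (M.subgroupOf H) := hM.inv.subgroupOf hMH hxH
  have hMp : IsPGroup p ((part p M).subgroupOf H) :=
    part_isPGroup.of_equiv (subgroupOfEquivOfLe hPH).symm
  have hPn : ((part p M).subgroupOf H).Normal := by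
    subst hHdef
    exact normal_in_normalizer
  rcases hC with ⟨N, hN, -, hN3, hq⟩ | ⟨V, hV, -, hV2, ⟨e⟩⟩ | ⟨⟨e⟩⟩
  · -- the quotient has order three or six
    have hq' : Nat.card (H ⧸ N) = 3 ∨ Nat.card (H ⧸ N) = 6 := by
      rcases hq with hq | ⟨⟨e⟩⟩
      · exact Or.inl hq
      · exact Or.inr (by rw [Nat.card_congr e.toEquiv, Nat.card_perm, Nat.card_fin]; rfl)
    have hN3' : ¬ 3 ∣ Nat.card N := fun hd =>
      Nat.prime_three.one_lt.ne' (Nat.Coprime.eq_one_of_dvd hN3.symm hd)
    have hsub : M.subgroupOf H ≤ N := by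
      have h1 := hM'.map_card_mod hy (QuotientGroup.mk' N)
      have h2 := card_subgroup_dvd_card ((M.subgroupOf H).map (QuotientGroup.mk' N))
      have h3 : ¬ 3 ∣ Nat.card ((M.subgroupOf H).map (QuotientGroup.mk' N)) := fun hd =>
        hM'.cop (hd.trans (card_map_dvd ..))
      have h4 : Nat.card ((M.subgroupOf H).map (QuotientGroup.mk' N)) = 1 := by
        generalize Nat.card ((M.subgroupOf H).map (QuotientGroup.mk' N)) = d at h1 h2 h3
        rcases hq' with e | e <;> rw [e] at h2 <;>
          have := Nat.le_of_dvd (by norm_num) h2 <;> interval_cases d <;> omega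
      have h5 := card_eq_one.1 h4
      rwa [Subgroup.map_eq_bot_iff, QuotientGroup.ker_mk'] at h5
    have hNinv : Inv (⟨x, hxH⟩ : H) N := ⟨by rw [normalizer_eq_top]; trivial, hN3'⟩
    have hNeq : N.map H.subtype = M := hM.max _ hNinv.map_subtype fun m hm => ⟨⟨m, hMH hm⟩, hsub hm, rfl⟩
    have hcard : Nat.card H = Nat.card (H ⧸ N) * Nat.card M := by
      rw [card_eq_card_quotient_mul_card_subgroup N, ← hNeq, card_map_of_injective H.subtype_injective]
    have hHM : H ≤ normalizer (M : Set G) := by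
      rw [← hNeq]
      refine le_trans ?_ (N.le_normalizer_map H.subtype)
      rw [normalizer_eq_top, ← MonoidHom.range_eq_map, range_subtype]
    have hEq : H = normalizer (M : Set G) := le_antisymm hHM hle
    refine ⟨hEq, ?_⟩
    rw [← hEq, hcard]
    rcases hq' with e | e <;> rw [e]
    · exact Or.inl rfl
    · exact Or.inr rfl
  · -- the quotient cannot be alternating
    exfalso
    have hVp : IsPGroup 2 V := fun a => ⟨1, Subtype.ext (by simpa using hV2 a a.2)⟩
    have hcQ : Nat.card (H ⧸ V) = 60 := (Nat.card_congr e.toEquiv).trans card_alt_five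
    have : IsSimpleGroup (alternatingGroup (Fin 5)) := inferInstance
    have : Nontrivial (H ⧸ V) := e.toEquiv.nontrivial
    have hsQ : IsSimpleGroup (H ⧸ V) :=
      e.isSimpleGroup
    have hV3 : ¬ 3 ∣ Nat.card V := fun hd => by
      have : Fact (Nat.Prime 2) := ⟨Nat.prime_two⟩
      obtain ⟨k, hk⟩ := hVp.exists_card_eq
      rw [hk] at hd
      exact absurd (Nat.prime_three.dvd_of_dvd_pow hd) (by norm_num)
    have hPV : (part p M).subgroupOf H ≤ V := by
      have hp1 : IsPGroup p (((part p M).subgroupOf H).map (QuotientGroup.mk' V)) := hMp.map _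
      rcases (hPn.map _ (QuotientGroup.mk'_surjective V)).eq_bot_or_eq_top with e1 | e1
      · rwa [Subgroup.map_eq_bot_iff, QuotientGroup.ker_mk'] at e1
      · exfalso
        obtain ⟨k, hk⟩ := hp1.exists_card_eq
        rw [e1, card_top, hcQ] at hk
        have h2 : (2 : ℕ) ∣ p ^ k := hk ▸ (by norm_num : 2 ∣ 60)
        have h3 : (3 : ℕ) ∣ p ^ k := hk ▸ (by norm_num : 3 ∣ 60)
        have e2 := (Nat.prime_dvd_prime_iff_eq Nat.prime_two hpp).1 (Nat.prime_two.dvd_of_dvd_pow h2)
        have e3 := (Nat.prime_dvd_prime_iff_eq Nat.prime_three hpp).1 (Nat.prime_three.dvd_of_dvd_pow h3)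
        omega
    have hp2 : p = 2 := by
      obtain ⟨a, ha, ha1⟩ := (bot_or_exists_ne_one (part p M)).resolve_left hP1
      have hav : (⟨a, hPH ha⟩ : H) ^ 2 = 1 := hV2 _ (hPV ha)
      have ha2 : a ^ 2 = 1 := congrArg Subtype.val hav
      have hord : orderOf a = 2 := orderOf_eq_prime ha2 ha1
      obtain ⟨k, hk⟩ := part_isPGroup (p := p) (M := M) ⟨a, ha⟩
      have : orderOf a ∣ p ^ k := orderOf_dvd_of_pow_eq_one (congrArg Subtype.val hk)
      rw [hord] at this
      exact ((Nat.prime_dvd_prime_iff_eq Nat.prime_two hpp).1 (Nat.prime_two.dvd_of_dvd_pow this)).symm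
    subst hp2
    -- the image has order one or four
    set D := (M.subgroupOf H).map (QuotientGroup.mk' V)
    have h1 := hM'.map_card_mod hy (QuotientGroup.mk' V)
    have h3 : ¬ 3 ∣ Nat.card D := fun hd => hM'.cop (hd.trans (card_map_dvd ..))
    have h2 : Nat.card D ∣ 20 := by
      have := hcQ ▸ card_subgroup_dvd_card D
      exact Nat.Coprime.dvd_of_dvd_mul_left ((Nat.prime_three.coprime_iff_not_dvd.2 h3).symm)
        (show Nat.card D ∣ 3 * 20 from this)
    have h5 : ¬ 5 ∣ Nat.card D := fun hd => by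
      have : Fact (Nat.Prime 5) := ⟨Nat.prime_five⟩
      obtain ⟨⟨w, hw⟩, hwo⟩ := exists_prime_orderOf_dvd_card' 5 hd
      rw [orderOf_mk] at hwo
      obtain ⟨k, hk, rfl⟩ := hw
      -- the five-part of `k`
      have hko : orderOf k ≠ 0 := (orderOf_pos k).ne'
      set s := orderOf k / 5 ^ (orderOf k).factorization 5
      have hs : ¬ 5 ∣ s := Nat.not_dvd_ordCompl Nat.prime_five hko
      have hks : k ^ s ∈ (part 5 M).subgroupOf H := by
        rw [mem_subgroupOf, mem_part hnil]
        refine ⟨?_, (orderOf k).factorization 5, ?_⟩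
        · rw [Subgroup.coe_pow]; exact pow_mem hk _
        · rw [← Subgroup.coe_pow, ← pow_mul, mul_comm, Nat.ordProj_mul_ordCompl_eq_self,
            pow_orderOf_eq_one, Subgroup.coe_one]
      have h5le : part 5 M ≤ H := (part_le 5 M).trans hMH
      have hI : Inv (⟨x, hxH⟩ : H) ((part 5 M).subgroupOf H) := by
        refine Inv.subgroupOf ⟨normalizer_le_normalizer_part hnil hM.inv.norm, ?_⟩ h5le hxH
        exact fun hd => hM.inv.cop (hd.trans (card_dvd_of_le (part_le 5 M)))
      have hm := hI.map_card_mod hy (QuotientGroup.mk' V)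
      have hne : ((part 5 M).subgroupOf H).map (QuotientGroup.mk' V) ≠ ⊥ := fun e1 => by
        have hmem : QuotientGroup.mk' V (k ^ s) ∈ ((part 5 M).subgroupOf H).map (QuotientGroup.mk' V) :=
          mem_map_of_mem _ hks
        rw [e1, mem_bot, map_pow] at hmem
        have := orderOf_dvd_of_pow_eq_one hmem
        rw [hwo] at this
        exact hs this
      have hp5 : IsPGroup 5 (((part 5 M).subgroupOf H).map (QuotientGroup.mk' V)) :=
        (part_isPGroup.of_equiv (subgroupOfEquivOfLe h5le).symm).map _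
      obtain ⟨j, hj⟩ := hp5.exists_card_eq
      have hd60 := hcQ ▸ card_subgroup_dvd_card (((part 5 M).subgroupOf H).map (QuotientGroup.mk' V))
      rw [hj] at hm hd60
      rcases j with _ | _ | j
      · exact hne (card_eq_one.1 (hj.trans (pow_zero 5)))
      · norm_num at hm
      · have := Nat.le_of_dvd (by norm_num) ((pow_dvd_pow 5 (show 2 ≤ j + 2 by omega)).trans hd60)
        have h25 := (pow_dvd_pow 5 (show 2 ≤ j + 2 by omega)).trans hd60
        norm_num at h25
    have hD8 : Nat.card D ∣ 4 :=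
      Nat.Coprime.dvd_of_dvd_mul_left ((Nat.prime_five.coprime_iff_not_dvd.2 h5).symm)
        (show Nat.card D ∣ 5 * 4 from h2)
    have hM2 : M ≤ part 2 M := fun a ha => (mem_part hnil).2 ⟨ha, 3, by
      have hm : QuotientGroup.mk' V (⟨a, hMH ha⟩ : H) ∈ D := mem_map_of_mem _ ha
      have hpow : QuotientGroup.mk' V (⟨a, hMH ha⟩ : H) ^ 4 = 1 := by
        obtain ⟨c, hc⟩ := hD8
        have := pow_card_eq_one' (G := D) (x := ⟨_, hm⟩)
        have h' : QuotientGroup.mk' V (⟨a, hMH ha⟩ : H) ^ Nat.card D = 1 := congrArg Subtype.val this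
        rw [hc, pow_mul, h', one_pow]
      rw [← map_pow, QuotientGroup.mk'_apply, QuotientGroup.eq_one_iff] at hpow
      have := congrArg Subtype.val (hV2 _ hpow)
      rw [show (2 : ℕ) ^ 3 = 4 * 2 from rfl, pow_mul]
      simpa using this⟩
    have hMV : M.subgroupOf H ≤ V := fun a ha => hPV (hM2 ha)
    obtain ⟨K, hK1, hK2⟩ := exists_klein_sixty hcQ (hy.quotient V hV3)
    have hKI : Inv (⟨x, hxH⟩ : H) (K.comap (QuotientGroup.mk' V)) :=
      Inv.comap (QuotientGroup.mk' V) (QuotientGroup.mk'_surjective V)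
        (by rw [QuotientGroup.ker_mk']; exact hV3) ⟨hK1, by rw [hK2]; norm_num⟩
    have hW := hM.max _ hKI.map_subtype fun m hm => ⟨⟨m, hMH hm⟩, ?_, rfl⟩
    · have hKV : K.comap (QuotientGroup.mk' V) ≤ V := fun a ha => hMV (by
        rw [mem_subgroupOf]
        exact hW ▸ ⟨a, ha, rfl⟩)
      have hKb : K = ⊥ := by
        refine eq_bot_iff.2 fun q hq => ?_
        obtain ⟨a, rfl⟩ := QuotientGroup.mk'_surjective V q
        rw [mem_bot, QuotientGroup.mk'_apply, QuotientGroup.eq_one_iff]
        exact hKV hq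
      rw [hKb, card_bot] at hK2
      omega
    · show (⟨m, hMH hm⟩ : H) ∈ K.comap (QuotientGroup.mk' V)
      rw [mem_comap, QuotientGroup.mk'_apply, (QuotientGroup.eq_one_iff _).2 (hMV (by exact hm))]
      exact one_mem _
  · -- nor can the subgroup be simple
    exfalso
    obtain ⟨hs, hc⟩ := psl_seven
    have : Nontrivial H := e.toEquiv.nontrivial
    have hsH : IsSimpleGroup H := e.isSimpleGroup
    rcases hPn.eq_bot_or_eq_top with e1 | e1
    · rw [subgroupOf_eq_bot, disjoint_iff, inf_eq_left.2 hPH] at e1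
      exact hP1 e1
    · obtain ⟨k, hk⟩ := hMp.exists_card_eq
      rw [e1, card_top, Nat.card_congr e.toEquiv, hc] at hk
      have h2 : (2 : ℕ) ∣ p ^ k := hk ▸ (by norm_num : 2 ∣ 168)
      have h3 : (3 : ℕ) ∣ p ^ k := hk ▸ (by norm_num : 3 ∣ 168)
      have e2 := (Nat.prime_dvd_prime_iff_eq Nat.prime_two hpp).1 (Nat.prime_two.dvd_of_dvd_pow h2)
      have e3 := (Nat.prime_dvd_prime_iff_eq Nat.prime_three hpp).1 (Nat.prime_three.dvd_of_dvd_pow h3)
      omega

end Cfsg.Agent.SelfCentThree
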