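import Cfsg.Agent.SelfCentThree.Fpf
import Cfsg.Agent.SelfCentThree.Basics

/-!
# Primary parts of invariant subgroups, conjugation
-/

set_option autoImplicit false

namespace Cfsg.Agent.SelfCentThree

open Subgroup

universe u

variable {G : Type u} [Group G]

/-- The conjugate of a subgroup. -/
def cj (g : G) (M : Subgroup G) : Subgroup G := M.map (MulAut.conj g).toMonoidHom

theorem mem_cj {g a : G} {M : Subgroup G} : a ∈ cj g M ↔ g⁻¹ * a * g ∈ M := by
  constructor
  · rintro ⟨b, hb, rfl⟩
    have : g⁻¹ * (MulAut.conj g).toMonoidHom b * g = b := by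
      show g⁻¹ * (g * b * g⁻¹) * g = b
      group
    rwa [this]
  · intro h
    exact ⟨_, h, show g * (g⁻¹ * a * g) * g⁻¹ = a by group⟩

theorem conj_mem_cj {g a : G} {M : Subgroup G} : g * a * g⁻¹ ∈ cj g M ↔ a ∈ M := by
  rw [mem_cj, show g⁻¹ * (g * a * g⁻¹) * g = a by group]

theorem card_cj (g : G) (M : Subgroup G) : Nat.card (cj g M) = Nat.card M :=
  (Nat.card_congr (M.equivMapOfInjective _ (MulAut.conj g).injective).toEquiv).symm

theorem cj_cj (g k : G) (M : Subgroup G) : cj g (cj k M) = cj (g * k) M := by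
  ext a
  simp only [mem_cj, mul_inv_rev, mul_assoc]

theorem cj_one (M : Subgroup G) : cj 1 M = M := by
  ext a
  simp [mem_cj]

theorem cj_mono {g : G} {M M' : Subgroup G} (h : M ≤ M') : cj g M ≤ cj g M' := Subgroup.map_mono h

theorem cj_eq_iff {g : G} {M : Subgroup G} : cj g M = M ↔ g ∈ normalizer (M : Set G) := by
  rw [mem_normalizer_iff]
  constructor
  · intro e a
    conv_rhs => rw [← e, conj_mem_cj]
  · intro h
    ext a
    rw [mem_cj, h (g⁻¹ * a * g), show g * (g⁻¹ * a * g) * g⁻¹ = a by group]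

theorem mem_normalizer_cj {g a : G} {M : Subgroup G} :
    g * a * g⁻¹ ∈ normalizer ((cj g M : Subgroup G) : Set G) ↔ a ∈ normalizer (M : Set G) := by
  rw [← cj_eq_iff, ← cj_eq_iff, cj_cj, show g * a * g⁻¹ * g = g * a by group, ← cj_cj]
  exact ⟨fun e => by
    have := congrArg (cj g⁻¹) e
    rwa [cj_cj, cj_cj, inv_mul_cancel, one_mul, cj_cj, inv_mul_cancel, cj_one] at this, fun e => by rw [e]⟩

/-- The `p`-part of a subgroup. -/
noncomputable def part (p : ℕ) [Fact p.Prime] (M : Subgroup G) : Subgroup G :=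
  ((Classical.arbitrary (Sylow p M) : Sylow p M) : Subgroup M).map M.subtype

variable {p : ℕ} [Fact p.Prime] {M : Subgroup G}

theorem part_le (p : ℕ) [Fact p.Prime] (M : Subgroup G) : part p M ≤ M := map_subtype_le _

theorem part_isPGroup : IsPGroup p (part p M) := (Classical.arbitrary (Sylow p M)).2.map _

variable [Finite G]

theorem card_part (p : ℕ) [Fact p.Prime] (M : Subgroup G) :
    Nat.card (part p M) = p ^ (Nat.card M).factorization p := by
  rw [part, card_map_of_injective M.subtype_injective]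
  exact (Classical.arbitrary (Sylow p M)).card_eq_multiplicity

theorem mem_part (hM : Group.IsNilpotent M) {a : G} :
    a ∈ part p M ↔ a ∈ M ∧ ∃ k : ℕ, a ^ p ^ k = 1 := by
  constructor
  · intro ha
    obtain ⟨k, hk⟩ := part_isPGroup (p := p) (M := M) ⟨a, ha⟩
    exact ⟨part_le p M ha, k, congrArg Subtype.val hk⟩
  · rintro ⟨ha, k, hk⟩
    set P := Classical.arbitrary (Sylow p M) with hP
    have hz : IsPGroup p (zpowers (⟨a, ha⟩ : M)) := fun ⟨y, hy⟩ => by
      obtain ⟨i, rfl⟩ := mem_zpowers_iff.1 hy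
      refine ⟨k, Subtype.ext (Subtype.ext ?_)⟩
      show (a ^ i) ^ p ^ k = 1
      rw [← zpow_natCast, ← zpow_mul, mul_comm, zpow_mul, zpow_natCast, hk, one_zpow]
    obtain ⟨Q, hQ⟩ := hz.exists_le_sylow
    have hn : (P : Subgroup M).Normal := inferInstance
    have : Unique (Sylow p M) := Sylow.unique_of_normal P hn
    have e : Q = P := Subsingleton.elim _ _
    have hm := hQ (mem_zpowers (⟨a, ha⟩ : M))
    rw [e] at hm
    exact ⟨⟨a, ha⟩, hm, rfl⟩

theorem le_part (hM : Group.IsNilpotent M) {S : Subgroup G} (hS : IsPGroup p S) (hle : S ≤ M) :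
    S ≤ part p M := fun a ha => (mem_part hM).2 ⟨hle ha, by
  obtain ⟨k, hk⟩ := hS ⟨a, ha⟩
  exact ⟨k, congrArg Subtype.val hk⟩⟩

omit [Finite G] in
theorem nilpotent_cj (g : G) (hM : Group.IsNilpotent M) : Group.IsNilpotent (cj g M) :=
  Group.nilpotent_of_mulEquiv (M.equivMapOfInjective _ (MulAut.conj g).injective)

theorem part_cj (g : G) (hM : Group.IsNilpotent M) : part p (cj g M) = cj g (part p M) := by
  ext a
  rw [mem_part (nilpotent_cj g hM), mem_cj, mem_cj, mem_part hM]
  refine and_congr_right fun _ => exists_congr fun k => ?_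
  rw [show g⁻¹ * a * g = g⁻¹ * a * g⁻¹⁻¹ by group, conj_pow, conj_eq_one_iff]

theorem normalizer_le_normalizer_part (hM : Group.IsNilpotent M) :
    normalizer (M : Set G) ≤ normalizer (part p M : Set G) := fun g hg => by
  rw [← cj_eq_iff] at hg ⊢
  rw [← part_cj g hM, hg]

theorem le_normalizer_part (hM : Group.IsNilpotent M) : M ≤ normalizer (part p M : Set G) :=
  le_normalizer.trans (normalizer_le_normalizer_part hM)

/-- The `p`-part commutes with the elements of order prime to `p`; so its central elements are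
central. -/
theorem commute_of_central (hM : Group.IsNilpotent M) {u : G} (hu : u ∈ part p M)
    (hc : ∀ a ∈ part p M, a * u = u * a) {m : G} (hm : m ∈ M) : m * u = u * m := by
  classical
  set C : Subgroup M := centralizer {(⟨u, part_le p M hu⟩ : M)}
  suffices hC : C = ⊤ by
    have := mem_centralizer_singleton_iff.1 (show (⟨m, hm⟩ : M) ∈ C by rw [hC]; trivial)
    exact congrArg Subtype.val this
  refine eq_top_of_card_eq _ (Nat.dvd_antisymm (card_subgroup_dvd_card C) ?_)
  rw [Nat.dvd_iff_prime_pow_dvd_dvd]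
  intro q k hq hk
  have : Fact q.Prime := ⟨hq⟩
  obtain ⟨Q⟩ := (inferInstance : Nonempty (Sylow q M))
  refine (Q.pow_dvd_card_of_pow_dvd_card hk).trans (card_dvd_of_le fun a ha => ?_)
  rw [mem_centralizer_singleton_iff]
  obtain ⟨j, hj⟩ := Q.2 ⟨a, ha⟩
  have hj' : a ^ q ^ j = 1 := congrArg Subtype.val hj
  refine Subtype.ext ?_
  by_cases hqp : q = p
  · subst hqp
    exact hc a ((mem_part hM).2 ⟨a.2, j, by simpa using congrArg Subtype.val hj'⟩)
  · set P := Classical.arbitrary (Sylow p M)
    have hn : (P : Subgroup M).Normal := inferInstance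
    have hn' : (Q : Subgroup M).Normal := inferInstance
    obtain ⟨u', hu', e⟩ := hu
    have := Subgroup.commute_of_normal_of_disjoint _ _ hn' hn
      (IsPGroup.disjoint_of_ne q p hqp _ _ Q.2 P.2) a u' ha hu'
    subst e
    exact congrArg Subtype.val this.eq

/-- A maximal invariant subgroup. -/
structure Max (x : G) (M : Subgroup G) : Prop where
  inv : Inv x M
  max : ∀ K : Subgroup G, Inv x K → M ≤ K → K = M

omit [Finite G] in
theorem Inv.cj {x : G} (h : Inv x M) (g : G) : Inv (g * x * g⁻¹) (SelfCentThree.cj g M) :=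
  ⟨mem_normalizer_cj.2 h.norm, by rw [card_cj]; exact h.cop⟩

omit [Finite G] in
theorem Max.cj {x : G} (h : Max x M) (g : G) : Max (g * x * g⁻¹) (SelfCentThree.cj g M) := by
  refine ⟨h.inv.cj g, fun K hK hle => ?_⟩
  have h1 := h.max (SelfCentThree.cj g⁻¹ K)
    (by
      have := hK.cj g⁻¹
      rwa [show g⁻¹ * (g * x * g⁻¹) * g⁻¹⁻¹ = x by group] at this)
    (by
      have := cj_mono (g := g⁻¹) hle
      rwa [cj_cj, inv_mul_cancel, cj_one] at this)
  rw [← h1, cj_cj, mul_inv_cancel, cj_one]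

theorem exists_max {x : G} {K : Subgroup G} (hK : Inv x K) : ∃ M, Max x M ∧ K ≤ M := by
  classical
  obtain ⟨M, hM1, hM2⟩ := (Set.toFinite {L : Subgroup G | Inv x L}).exists_le_maximal hK
  exact ⟨M, ⟨hM2.prop, fun L hL hle => (le_antisymm (hM2.2 hL hle) hle)⟩, hM1⟩

end Cfsg.Agent.SelfCentThree
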